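import Cfsg.Agent.Lib.Lie.WeilRankOne.Half
import Cfsg.Agent.Lib.Char.Induction

/-!
# Representations of `SL(2, q)` with weights in one square class
-/

set_option autoImplicit false
set_option linter.unusedSectionVars false

namespace Cfsg.Agent.WeilOne

open Matrix Cfsg Cfsg.Agent.Small.PSpn Cfsg.Agent.SpBound Cfsg.Agent.Weil
open scoped ComplexConjugate

universe u w

variable {F : Type u} [Field F] [Fintype F] [DecidableEq F] {n : ℕ}

/-- All weights are in the class of `ψ`. -/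
def Single (ψ : AddChar F ℂ) {V : Type w} [AddCommGroup V] [Module ℂ V]
    (ρ : Representation ℂ (Matrix.symplecticGroup (Fin n) F) V) : Prop :=
  ∀ (φ : AddChar (symH F n) ℂ) (y : V), y ≠ 0 → Eig ρ φ y → ∃ t, φ = kap ψ t

/-- All weights have rank at most one. -/
def RankOne {V : Type w} [AddCommGroup V] [Module ℂ V]
    (ρ : Representation ℂ (Matrix.symplecticGroup (Fin n) F) V) : Prop :=
  ∀ (φ : AddChar (symH F n) ℂ) (y : V), y ≠ 0 → Eig ρ φ y → ∃ ψ' : AddChar F ℂ, ψ' ≠ 0 ∧ ∃ t, φ = kap ψ' t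

section General

variable {V : Type w} [AddCommGroup V] [Module ℂ V]
variable (ρ : Representation ℂ (Matrix.symplecticGroup (Fin n) F) V)

/-- The averaging operator as a linear map. -/
noncomputable def prL (φ : AddChar (symH F n) ℂ) : Module.End ℂ V :=
  (Fintype.card (symH F n) : ℂ)⁻¹ • ∑ S : symH F n, φ (-S) • ρ (lS S)

theorem prL_apply (φ : AddChar (symH F n) ℂ) (x : V) : prL ρ φ x = pr ρ φ x := by
  simp [prL, pr]

theorem pr_of_eig {φ : AddChar (symH F n) ℂ} {x : V} (h : Eig ρ φ x) : pr ρ φ x = x := by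
  unfold pr
  simp only [h _, smul_smul, ← AddChar.map_add_eq_mul, neg_add_cancel, AddChar.map_zero_eq_one, one_smul,
    Finset.sum_const, Finset.card_univ, ← Nat.cast_smul_eq_nsmul ℂ]
  rw [inv_mul_cancel₀ (Nat.cast_ne_zero.2 Fintype.card_ne_zero), one_smul]

/-- The weight space. -/
def eigS (φ : AddChar (symH F n) ℂ) : Submodule ℂ V where
  carrier := {x | Eig ρ φ x}
  zero_mem' S := by rw [map_zero, smul_zero]
  add_mem' hx hy S := by rw [map_add, hx S, hy S, smul_add]
  smul_mem' c x hx S := by rw [map_smul, hx S, smul_comm]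

theorem mem_eigS {φ : AddChar (symH F n) ℂ} {x : V} : x ∈ eigS ρ φ ↔ Eig ρ φ x := Iff.rfl

/-- Multiplicity of a weight in a representation, computed on the character. -/
theorem classInner_weight [FiniteDimensional ℂ V] (φ : AddChar (symH F n) ℂ) :
    (Fintype.card (symH F n) : ℂ)⁻¹ * ∑ S : symH F n, φ S * conj (ρ.character (lS S)) =
      (Module.finrank ℂ (eigS ρ φ) : ℂ) := by
  have hp : LinearMap.IsProj (eigS ρ φ) (prL ρ φ) :=
    ⟨fun x => by rw [prL_apply]; exact pr_eig ρ φ x, fun x hx => by rw [prL_apply]; exact pr_of_eig ρ hx⟩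
  have ht := hp.trace
  have h1 : (Fintype.card (symH F n) : ℂ)⁻¹ * ∑ S : symH F n, φ (-S) * ρ.character (lS S) =
      (Module.finrank ℂ (eigS ρ φ) : ℂ) := by
    rw [← ht, prL, map_smul, map_sum, smul_eq_mul]
    simp only [map_smul, smul_eq_mul, Representation.character]
  have := congrArg conj h1
  rw [map_natCast, map_mul, map_inv₀, map_natCast, map_sum] at this
  rw [← this]
  congr 1
  refine Finset.sum_congr rfl fun S _ => ?_
  rw [map_mul, AddChar.map_neg_eq_conj, Complex.conj_conj]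

theorem pr_map {W : Type*} [AddCommGroup W] [Module ℂ W]
    (σ : Representation ℂ (Matrix.symplecticGroup (Fin n) F) W) (f : V →ₗ[ℂ] W)
    (hf : ∀ g x, f (ρ g x) = σ g (f x)) (φ : AddChar (symH F n) ℂ) (x : V) : pr σ φ (f x) = f (pr ρ φ x) := by
  unfold pr
  simp only [map_smul, map_sum, hf]

end General

theorem sum_kap {ψ ψ' : AddChar (symH F n) ℂ} :
    (Fintype.card (symH F n) : ℂ)⁻¹ * ∑ S : symH F n, ψ S * conj (ψ' S) = if ψ = ψ' then 1 else 0 := by
  classical
  have h : ∀ S, ψ S * conj (ψ' S) = (ψ - ψ') S := fun S => by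
    rw [AddChar.sub_apply, ← AddChar.map_neg_eq_conj]
  simp only [h, AddChar.sum_eq_ite, sub_eq_zero]
  split
  · rw [inv_mul_cancel₀ (Nat.cast_ne_zero.2 Fintype.card_ne_zero)]
  · rw [mul_zero]

section SL2

local notation "G1" => Matrix.symplecticGroup (Fin 1) F
local notation "T1" => Fin 1 → F

noncomputable local instance fintypeG1 : Fintype G1 := Fintype.ofFinite _

/-- The matrix entries of an element of the rank one group. -/
def ea (x : G1) : F × F × F × F := (x.1 (.inl 0) (.inl 0), x.1 (.inl 0) (.inr 0), x.1 (.inr 0) (.inl 0), x.1 (.inr 0) (.inr 0))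

theorem det_one (x : G1) : (ea x).1 * (ea x).2.2.2 - (ea x).2.1 * (ea x).2.2.1 = 1 := by
  have h := congrFun (congrFun (SymplecticGroup.mem_iff.1 x.2) (.inr 0)) (.inl 0)
  simp [Matrix.mul_apply, Matrix.J, Fintype.sum_sum_type] at h
  simp [ea]
  linear_combination h

/-- Lower triangular elements. -/
def lowB (α : Fˣ) (γ : F) : G1 :=
  dElt ⟨(α : F) • 1, (α⁻¹ : Fˣ) • (1 : Matrix (Fin 1) (Fin 1) F), by simp [smul_smul, Units.smul_def],
      by simp [smul_smul, Units.smul_def]⟩ *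
    lS ⟨γ • 1, by rw [mem_sym, Matrix.transpose_smul, Matrix.transpose_one]⟩

theorem ea_lowB (α : Fˣ) (γ : F) :
    ea (lowB α γ) = ((α : F), 0, ((α⁻¹ : Fˣ) : F) * γ, ((α⁻¹ : Fˣ) : F)) := by
  simp [ea, lowB, dElt, lS, Matrix.fromBlocks_multiply, Units.smul_def]
  ring

theorem ea_inj {x y : G1} (h : ea x = ea y) : x = y := by
  simp only [ea, Prod.mk.injEq] at h
  apply Subtype.ext
  ext i j
  rcases i with i | i <;> rcases j with j | j <;> fin_cases i <;> fin_cases j <;> simp [h.1, h.2.1, h.2.2.1, h.2.2.2]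

/-- The lower unipotent subgroup. -/
def lowU : Subgroup G1 where
  carrier := {g | ∃ S, g = lS S}
  one_mem' := ⟨0, lS_zero.symm⟩
  mul_mem' := by rintro _ _ ⟨S, rfl⟩ ⟨S', rfl⟩; exact ⟨S + S', (lS_add S S').symm⟩
  inv_mem' := by
    rintro _ ⟨S, rfl⟩
    exact ⟨-S, (eq_inv_of_mul_eq_one_left (by rw [← lS_add, neg_add_cancel, lS_zero])).symm⟩

theorem lS_inj : Function.Injective (lS : symH F n → Matrix.symplecticGroup (Fin n) F) := by
  intro S S' h
  have := congrArg Subtype.val h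
  exact Subtype.ext ((Matrix.fromBlocks_inj.1 this).2.2.1)

noncomputable local instance fintypeLowU : Fintype (lowU (F := F)) := Fintype.ofFinite _

/-- Parametrising the lower unipotent subgroup. -/
noncomputable def lowEquiv : symH F 1 ≃ lowU (F := F) :=
  Equiv.ofBijective (fun S => ⟨lS S, S, rfl⟩)
    ⟨fun S S' h => lS_inj (congrArg Subtype.val h), fun g => by
      obtain ⟨_, S, rfl⟩ := g
      exact ⟨S, rfl⟩⟩

theorem sym_one (S : symH F 1) : (S : Matrix (Fin 1) (Fin 1) F) = (S : Matrix (Fin 1) (Fin 1) F) 0 0 • 1 := by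
  ext i j
  fin_cases i; fin_cases j; simp

theorem conj_mem_iff (x : G1) {S : symH F 1} (hS : S ≠ 0) :
    x⁻¹ * lS S * x ∈ lowU → (ea x).2.1 = 0 := by
  rintro ⟨S', hS'⟩
  have h1 : lS S * x = x * lS S' := by rw [← hS']; group
  have h := congrFun (congrFun (congrArg Subtype.val h1) (.inr 0)) (.inr 0)
  simp [lS, Matrix.mul_apply, Fintype.sum_sum_type] at h
  refine h.resolve_left fun h0 => hS (Subtype.ext ?_)
  rw [sym_one S, h0, zero_smul]
  rfl

variable {ψ : AddChar F ℂ} (h2 : (2 : F) ≠ 0) (hψ : ψ ≠ 0)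

theorem kap_scale (ψ : AddChar F ℂ) (α : Fˣ) (γ : F) (S : symH F 1) (t : T1) :
    ∃ S' : symH F 1, (lowB α γ)⁻¹ * lS S * lowB α γ = lS S' ∧ kap ψ t S' = kap ψ ((α : F) • t) S := by
  refine ⟨⟨((α : F) * (α : F)) • (S : Matrix (Fin 1) (Fin 1) F), ?_⟩, ?_, ?_⟩
  · rw [mem_sym, Matrix.transpose_smul, show (S : Matrix (Fin 1) (Fin 1) F)ᵀ = S from S.2]
  · rw [mul_assoc, inv_mul_eq_iff_eq_mul, lowB]
    have e : ∀ S' : symH F 1, congrInv (⟨(α : F) • 1, (α⁻¹ : Fˣ) • (1 : Matrix (Fin 1) (Fin 1) F),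
        by simp [smul_smul, Units.smul_def], by simp [smul_smul, Units.smul_def]⟩ : (Matrix (Fin 1) (Fin 1) F)ˣ)
        S' = S → dElt _ * lS S' = lS S * dElt _ := fun S' h => by rw [dElt_mul_lS, h]
    rw [← mul_assoc, ← e ⟨((α : F) * (α : F)) • (S : Matrix (Fin 1) (Fin 1) F), by
      rw [mem_sym, Matrix.transpose_smul, show (S : Matrix (Fin 1) (Fin 1) F)ᵀ = S from S.2]⟩ ?_, mul_assoc,
      lS_comm, ← mul_assoc]
    apply Subtype.ext
    simp [congrInv, Units.smul_def, smul_smul]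
  · rw [kap_apply, kap_apply]
    congr 1
    simp only [Matrix.smul_mulVec, Matrix.mulVec_smul, dotProduct_smul, smul_dotProduct, smul_eq_mul]
    ring

/-- The test function on the lower unipotent subgroup. -/
noncomputable def tst (ψ ψ' : AddChar F ℂ) : lowU (F := F) → ℂ :=
  fun g => kap ψ (1 : T1) (lowEquiv.symm g) - kap ψ' (1 : T1) (lowEquiv.symm g)

theorem ind_value (ψ ψ' : AddChar F ℂ) (S : symH F 1) :
    indFun lowU (tst ψ ψ') (lS S) =
      ∑ α : Fˣ, (kap ψ (fun _ => (α : F)) S - kap ψ' (fun _ => (α : F)) S) := by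
  classical
  have hcard : Nat.card (lowU (F := F)) = Fintype.card F := by
    rw [← Nat.card_congr lowEquiv, ← Nat.card_eq_fintype_card]
    exact Nat.card_congr
      { toFun := fun S => (S : Matrix (Fin 1) (Fin 1) F) 0 0
        invFun := fun s => ⟨s • 1, by rw [mem_sym, Matrix.transpose_smul, Matrix.transpose_one]⟩
        left_inv := fun S => Subtype.ext (sym_one S).symm
        right_inv := fun s => by simp }
  by_cases hS : S = 0
  · subst hS
    rw [lS_zero, Char.indFun_one]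
    have : lowEquiv.symm (1 : lowU (F := F)) = 0 :=
      (Equiv.symm_apply_eq _).2 (Subtype.ext lS_zero.symm)
    simp [tst, this]
  rw [indFun, hcard]
  have hsupp : ∀ x : G1, extendByZero lowU (tst ψ ψ') (x⁻¹ * lS S * x) ≠ 0 → (ea x).2.1 = 0 := fun x hx => by
    by_contra h
    exact hx (Char.extendByZero_not_mem _ _ fun hm => h (conj_mem_iff x hS hm))
  let eB : Fˣ × F ≃ {x : G1 // (ea x).2.1 = 0} :=
    Equiv.ofBijective (fun p => ⟨lowB p.1 p.2, by rw [ea_lowB]⟩) ⟨fun p q h => by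
      have := congrArg (fun z : {x : G1 // (ea x).2.1 = 0} => ea z.1) h
      simp only [ea_lowB, Prod.mk.injEq] at this
      have e1 : p.1 = q.1 := Units.ext this.1
      refine Prod.ext e1 ?_
      rw [e1] at this
      exact mul_left_cancel₀ (Units.ne_zero _) this.2.2.1,
    fun x => by
      have hd := det_one x.1
      rw [x.2, zero_mul, sub_zero] at hd
      refine ⟨⟨Units.mk0 (ea x.1).1 (left_ne_zero_of_mul_eq_one hd), (ea x.1).1 * (ea x.1).2.2.1⟩,
        Subtype.ext (ea_inj ?_)⟩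
      rw [ea_lowB]
      have e4 : (ea x.1).2.2.2 = ((ea x.1).1)⁻¹ := eq_inv_of_mul_eq_one_right hd
      refine Prod.ext rfl (Prod.ext x.2.symm (Prod.ext ?_ ?_))
      · simp [← mul_assoc, left_ne_zero_of_mul_eq_one hd]
      · simp [e4]⟩
  rw [← Finset.sum_filter_of_ne (p := fun x => (ea x).2.1 = 0) (fun x _ h => hsupp x h),
    Finset.sum_subtype (p := fun x : G1 => (ea x).2.1 = 0) _ (by simp), ← eB.sum_comp, Fintype.sum_prod_type,
    Finset.mul_sum]
  refine Finset.sum_congr rfl fun α _ => ?_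
  have hval : ∀ γ : F, extendByZero lowU (tst ψ ψ') (((eB (α, γ) : _) : G1)⁻¹ * lS S * (eB (α, γ) : _)) =
      kap ψ (fun _ => (α : F)) S - kap ψ' (fun _ => (α : F)) S := by
    intro γ
    obtain ⟨S', h1, h3⟩ := kap_scale ψ α γ S (1 : T1)
    obtain ⟨S'', h1', h3'⟩ := kap_scale ψ' α γ S (1 : T1)
    obtain rfl : S' = S'' := lS_inj (h1.symm.trans h1')
    show extendByZero lowU (tst ψ ψ') ((lowB α γ)⁻¹ * lS S * lowB α γ) = _
    rw [h1, Char.extendByZero_mem _ _ (show lS S' ∈ lowU from ⟨S', rfl⟩)]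
    have : lowEquiv.symm ⟨lS S', ⟨S', rfl⟩⟩ = S' := (Equiv.symm_apply_eq _).2 rfl
    simp only [tst, this, h3, h3']
    have e : (α : F) • (1 : T1) = fun _ => (α : F) := by funext i; simp
    rw [e]
  rw [Finset.sum_congr rfl fun γ _ => hval γ, Finset.sum_const, Finset.card_univ, nsmul_eq_mul, ← mul_assoc,
    inv_mul_cancel₀ (Nat.cast_ne_zero.2 Fintype.card_ne_zero), one_mul]

theorem tst_inner (ψ ψ' : AddChar F ℂ) (χ : G1 → ℂ) :
    classInner (tst ψ ψ') (fun g : lowU => χ g) =
      (Fintype.card (symH F 1) : ℂ)⁻¹ * ∑ S : symH F 1, kap ψ (1 : T1) S * conj (χ (lS S)) -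
      (Fintype.card (symH F 1) : ℂ)⁻¹ * ∑ S : symH F 1, kap ψ' (1 : T1) S * conj (χ (lS S)) := by
  classical
  rw [classInner, ← Nat.card_congr lowEquiv, Nat.card_eq_fintype_card, ← lowEquiv.sum_comp, ← mul_sub,
    ← Finset.sum_sub_distrib]
  congr 1
  refine Finset.sum_congr rfl fun S _ => ?_
  simp only [tst, Equiv.symm_apply_apply, sub_mul]
  rfl

include h2 hψ in
theorem kap_cross {ν : F} (hν : ¬ IsSquare ν) {u v : T1} (hu : u ≠ 0) :
    kap (ψ.mulShift ν) u ≠ kap ψ v := by
  intro h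
  have h1 := (kap_eq_iff h2 hψ (fun x => AddChar.mulShift_apply) u v).1 h 0 0
  have hu0 : u 0 ≠ 0 := fun e => hu (funext fun i => by fin_cases i; exact e)
  refine hν ⟨v 0 / u 0, ?_⟩
  field_simp
  linear_combination h1

include h2 hψ in
theorem tst_norm {ν : F} (hν : ¬ IsSquare ν) :
    classInner (indFun lowU (tst ψ (ψ.mulShift ν))) (indFun lowU (tst ψ (ψ.mulShift ν))) = 4 := by
  classical
  rw [Char.frobenius _ _ (Char.isClassFunction_indFun _ _), tst_inner]
  simp only [ind_value, map_sum, map_sub, Finset.mul_sum, mul_sub, Finset.sum_sub_distrib]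
  rw [Finset.sum_comm (γ := symH F 1), Finset.sum_comm (γ := symH F 1), Finset.sum_comm (γ := symH F 1),
    Finset.sum_comm (γ := symH F 1)]
  simp only [← Finset.mul_sum, sum_kap]
  have hν0 : ν ≠ 0 := fun h => hν (h ▸ ⟨0, (mul_zero 0).symm⟩)
  have hψ' : ψ.mulShift ν ≠ 0 := AddChar.IsPrimitive.of_ne_one hψ hν0
  have h10 : (1 : T1) ≠ 0 := fun h => one_ne_zero (congrFun h 0 : (1 : F) = 0)
  have hα : ∀ α : Fˣ, (fun _ => (α : F) : T1) ≠ 0 := fun α h => α.ne_zero (congrFun h 0)
  have hiff : ∀ (ψ' : AddChar F ℂ), ψ' ≠ 0 → ∀ α : Fˣ,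
      (kap ψ' (1 : T1) = kap ψ' (fun _ => (α : F))) ↔ α ∈ ({1, -1} : Finset Fˣ) := by
    intro ψ' hψ' α
    rw [Finset.mem_insert, Finset.mem_singleton]
    constructor
    · intro h
      rcases kap_inj h2 hψ' h.symm with e | e
      · left; exact Units.ext (by simpa using congrFun e 0)
      · right; exact Units.ext (by simpa using congrFun e 0)
    · rintro (rfl | rfl)
      · rfl
      · rw [← kap_neg]; congr 1
  have hc1 : ∀ α : Fˣ, kap ψ (1 : T1) ≠ kap (ψ.mulShift ν) (fun _ => (α : F)) := fun α h =>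
    kap_cross h2 hψ hν (hα α) h.symm
  have hc3 : ∀ α : Fˣ, kap (ψ.mulShift ν) (1 : T1) ≠ kap ψ (fun _ => (α : F)) := fun α =>
    kap_cross h2 hψ hν h10
  have hpm : (1 : Fˣ) ≠ -1 := fun h => by
    have := congrArg Units.val h
    simp at this
    exact h2 (by linear_combination this)
  simp only [hc1, hc3, if_false, hiff ψ hψ, hiff _ hψ', Finset.sum_ite_mem, Finset.univ_inter,
    Finset.sum_const, Finset.card_pair hpm, Finset.sum_const_zero]
  norm_num

variable {V : Type w} [AddCommGroup V] [Module ℂ V]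

theorem eig_of_hom {W : Type*} [AddCommGroup W] [Module ℂ W]
    (σ : Representation ℂ (Matrix.symplecticGroup (Fin n) F) W)
    (ρ : Representation ℂ (Matrix.symplecticGroup (Fin n) F) V) (f : W →ₗ[ℂ] V)
    (hf : ∀ g x, f (σ g x) = ρ g (f x)) {φ : AddChar (symH F n) ℂ} {x : W} (h : Eig σ φ x) : Eig ρ φ (f x) :=
  fun S => by rw [← hf, h, map_smul]

include h2 hψ in
theorem hom_eq_zero [NeZero n] {ε : ℂ} (hε : ε * ε = 1)
    (ρ : Representation ℂ (Matrix.symplecticGroup (Fin n) F) V) (f : half (F := F) (n := n) ε →ₗ[ℂ] V)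
    (hf : ∀ g x, f (wh hε h2 hψ g x) = ρ g (f x)) {t : Fin n → F} (ht : t ≠ 0) (h : f (ev hε t) = 0) :
    f = 0 := by
  have := wh_irr h2 hψ hε (LinearMap.ker f) (fun g y hy => by
    rw [LinearMap.mem_ker] at hy ⊢
    rw [hf, hy, map_zero]) ((Submodule.ne_bot_iff _).2 ⟨_, LinearMap.mem_ker.2 h, ev_ne_zero h2 hε ht⟩)
  exact LinearMap.ker_eq_top.1 this

theorem eigS_line [NeZero n] {ε : ℂ} (hε : ε * ε = 1) {t : Fin n → F} :
    eigS (wh hε h2 hψ) (kap ψ t) ≤ Submodule.span ℂ {ev hε t} := by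
  intro y hy
  by_cases h0 : y = 0
  · rw [h0]; exact Submodule.zero_mem _
  obtain ⟨s, hs, c, hc, hc'⟩ := eig_half h2 hψ hε hy h0
  have hy' : y = c⁻¹ • ev hε s := by rw [hc', inv_smul_smul₀ hc]
  rcases kap_inj h2 hψ hs with e | e
  · rw [hy', ← e]; exact Submodule.smul_mem _ _ (Submodule.mem_span_singleton_self _)
  · rw [hy', ← neg_neg s, ← e, ev_neg, smul_smul]
    exact Submodule.smul_mem _ _ (Submodule.mem_span_singleton_self _)

theorem finrank_eigS_half [NeZero n] {ε : ℂ} (hε : ε * ε = 1) {t : Fin n → F} (ht : t ≠ 0) :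
    Module.finrank ℂ (eigS (wh hε h2 hψ) (kap ψ t)) = 1 := by
  have : eigS (wh hε h2 hψ) (kap ψ t) = Submodule.span ℂ {ev hε t} :=
    le_antisymm (eigS_line h2 hψ hε) ((Submodule.span_singleton_le_iff_mem _ _).2 (wh_lS h2 hψ hε t))
  rw [this, finrank_span_singleton (ev_ne_zero h2 hε ht)]

include h2 hψ in
theorem cross_half {ν : F} (hν : ¬ IsSquare ν) (hν' : ψ.mulShift ν ≠ 0) {ε : ℂ} (hε : ε * ε = 1) :
    eigS (wh (n := 1) hε h2 hψ) (kap (ψ.mulShift ν) (1 : T1)) = ⊥ ∧
      eigS (wh (n := 1) hε h2 hν') (kap ψ (1 : T1)) = ⊥ := by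
  have h10 : (1 : T1) ≠ 0 := fun h => one_ne_zero (congrFun h 0 : (1 : F) = 0)
  refine ⟨(Submodule.eq_bot_iff _).2 fun y hy => ?_, (Submodule.eq_bot_iff _).2 fun y hy => ?_⟩
  · by_contra h0
    obtain ⟨s, hs, -⟩ := eig_half h2 hψ hε hy h0
    exact kap_cross h2 hψ hν h10 hs
  · by_contra h0
    obtain ⟨s, hs, -⟩ := eig_half h2 hν' hε hy h0
    by_cases hs0 : s = 0
    · rw [hs0, kap_zero, ← kap_zero ψ] at hs
      rcases kap_inj h2 hψ hs with e | e
      · exact h10 e
      · exact h10 (by rw [e, neg_zero])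
    · exact kap_cross h2 hψ hν hs0 hs.symm

include h2 hψ in
/-- A representation with weights in one class receives a map from a half. -/
theorem exists_hom [FiniteDimensional ℂ V] (ρ : Representation ℂ G1 V) (hs : Single ψ ρ) {z : ℂ}
    (hz : ∀ y : V, ρ (negOne : G1) y = z • y) {x : V} (hx : Eig ρ (kap ψ (1 : T1)) x) (hx0 : x ≠ 0) :
    ∃ (ε : ℂ) (hε : ε * ε = 1) (f : half (F := F) (n := 1) ε →ₗ[ℂ] V),
      (∀ g y, f (wh hε h2 hψ g y) = ρ g (f y)) ∧ f ≠ 0 ∧ zc 1 h2 hψ * ε = z := by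
  classical
  obtain ⟨ν, hν⟩ := FiniteField.exists_nonsquare (F := F) (fun hc => h2 (by
    have := ringChar.of_eq hc
    exact CharTwo.two_eq_zero))
  have hν0 : ν ≠ 0 := fun h => hν (h ▸ ⟨0, (mul_zero 0).symm⟩)
  have hψ' : ψ.mulShift ν ≠ 0 := AddChar.IsPrimitive.of_ne_one hψ hν0
  have ho : (-1 : ℂ) * -1 = 1 := by norm_num
  have h10 : (1 : T1) ≠ 0 := fun h => one_ne_zero (congrFun h 0 : (1 : F) = 0)
  set p := (wh (n := 1) (one_mul (1 : ℂ)) h2 hψ).character
  set m := (wh (n := 1) ho h2 hψ).character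
  set p' := (wh (n := 1) (one_mul (1 : ℂ)) h2 hψ').character
  set m' := (wh (n := 1) ho h2 hψ').character
  set f := indFun lowU (tst ψ (ψ.mulShift ν))
  have self : ∀ {χ : AddChar F ℂ} (hχ : χ ≠ 0) {ε : ℂ} (hε : ε * ε = 1),
      classInner (wh (n := 1) hε h2 hχ).character (wh (n := 1) hε h2 hχ).character = 1 := by
    intro χ hχ ε hε
    haveI : Nontrivial (half (F := F) (n := 1) ε) := ⟨⟨_, _, ev_ne_zero h2 hε h10⟩⟩
    haveI : Nontrivial (Subrepresentation (wh (n := 1) hε h2 hχ)) :=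
      ⟨⟨⊥, ⊤, fun hbt => bot_ne_top (α := Submodule ℂ _) (congrArg Subrepresentation.toSubmodule hbt)⟩⟩
    haveI : (wh (n := 1) hε h2 hχ).IsIrreducible := ⟨fun S => by
      by_cases h : S.toSubmodule = ⊥
      · exact Or.inl (Subrepresentation.toSubmodule_injective h)
      · exact Or.inr (Subrepresentation.toSubmodule_injective
          (wh_irr h2 hχ hε S.toSubmodule (fun g y hy => S.apply_mem_toSubmodule g hy) h))⟩
    rw [Char.classInner_rep, Representation.IsIrreducible.finrank_intertwiningMap_self, Nat.cast_one]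
  have orth : ∀ {χ χ' : AddChar F ℂ} (hχ : χ ≠ 0) (hχ' : χ' ≠ 0) {ε ε' : ℂ} (hε : ε * ε = 1) (hε' : ε' * ε' = 1),
      (∀ s : T1, kap χ (1 : T1) = kap χ' s → ε = ε' ∧ χ = χ') → ¬ (ε = ε' ∧ χ = χ') →
      classInner (wh (n := 1) hε' h2 hχ').character (wh (n := 1) hε h2 hχ).character = 0 := by
    intro χ χ' hχ hχ' ε ε' hε hε' hk hne
    rw [Char.classInner_rep, Nat.cast_eq_zero]
    haveI : Subsingleton (Representation.IntertwiningMap (wh (n := 1) hε h2 hχ) (wh (n := 1) hε' h2 hχ')) := by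
      refine subsingleton_of_forall_eq 0 fun g => Representation.IntertwiningMap.ext ?_
      refine hom_eq_zero h2 hχ hε _ g.toLinearMap (fun a y => Representation.IntertwiningMap.isIntertwining _ _ g a y) h10 ?_
      by_contra h0
      obtain ⟨s, hs', -⟩ := eig_half h2 hχ' hε'
        (eig_of_hom _ _ g.toLinearMap (fun a y => Representation.IntertwiningMap.isIntertwining _ _ g a y) (wh_lS h2 hχ hε (1 : T1))) h0
      exact hne (hk s hs')
    exact Module.finrank_zero_of_subsingleton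
  have epsne : (1 : ℂ) ≠ -1 := by norm_num
  have orthEps : ∀ {χ : AddChar F ℂ} (hχ : χ ≠ 0) {ε ε' : ℂ} (hε : ε * ε = 1) (hε' : ε' * ε' = 1), ε ≠ ε' →
      classInner (wh (n := 1) hε' h2 hχ).character (wh (n := 1) hε h2 hχ).character = 0 := by
    intro χ hχ ε ε' hε hε' hne
    rw [Char.classInner_rep, Nat.cast_eq_zero]
    haveI : Subsingleton (Representation.IntertwiningMap (wh (n := 1) hε h2 hχ) (wh (n := 1) hε' h2 hχ)) := by
      refine subsingleton_of_forall_eq 0 fun g => Representation.IntertwiningMap.ext ?_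
      refine hom_eq_zero h2 hχ hε _ g.toLinearMap (fun a y => Representation.IntertwiningMap.isIntertwining _ _ g a y) h10 ?_
      by_contra h0
      have h := Representation.IntertwiningMap.isIntertwining _ _ g (negOne : G1) (ev hε (1 : T1))
      rw [wh_negOne, wh_negOne, map_smul] at h
      have := smul_left_injective ℂ h0 h
      exact hne (mul_left_cancel₀ (left_ne_zero_of_mul_eq_one (zc_sq h2 hχ)) this)
    exact Module.finrank_zero_of_subsingleton
  have crossk : ∀ s : T1, kap ψ (1 : T1) = kap (ψ.mulShift ν) s → False := fun s hs' => by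
    by_cases hs0 : s = 0
    · rw [hs0, kap_zero, ← kap_zero ψ] at hs'
      rcases kap_inj h2 hψ hs' with e | e
      · exact h10 e
      · exact h10 (by rw [e, neg_zero])
    · exact kap_cross h2 hψ hν hs0 hs'.symm
  have psine : ψ ≠ ψ.mulShift ν := fun h => crossk 1 (by rw [← h])
  have hcross : ∀ {ε ε' : ℂ} (hε : ε * ε = 1) (hε' : ε' * ε' = 1),
      classInner (wh (n := 1) hε' h2 hψ').character (wh (n := 1) hε h2 hψ).character = 0 := fun hε hε' =>
    orth hψ hψ' hε hε' (fun s hs' => (crossk s hs').elim) (fun h => psine h.2)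
  have hpm : ∀ {χ χ' : G1 → ℂ}, classInner χ χ' = 0 → classInner χ' χ = 0 := fun h => by
    rw [← Char.classInner_symm, h, map_zero]
  have pp : classInner p p = 1 := self hψ _
  have mm : classInner m m = 1 := self hψ _
  have p'p' : classInner p' p' = 1 := self hψ' _
  have m'm' : classInner m' m' = 1 := self hψ' _
  have mp : classInner m p = 0 := orthEps hψ _ _ epsne
  have m'p' : classInner m' p' = 0 := orthEps hψ' _ _ epsne
  have p'p : classInner p' p = 0 := hcross _ _
  have p'm : classInner p' m = 0 := hcross _ _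
  have m'p : classInner m' p = 0 := hcross _ _
  have m'm : classInner m' m = 0 := hcross _ _
  have finh : ∀ {χ : AddChar F ℂ} (hχ : χ ≠ 0) {ε : ℂ} (hε : ε * ε = 1),
      classInner f (wh (n := 1) hε h2 hχ).character =
        (Module.finrank ℂ (eigS (wh hε h2 hχ) (kap ψ (1 : T1))) : ℂ) -
          (Module.finrank ℂ (eigS (wh hε h2 hχ) (kap (ψ.mulShift ν) (1 : T1))) : ℂ) := by
    intro χ hχ ε hε
    rw [Char.frobenius _ _ (fun g k => Representation.char_conj _ g k), tst_inner, classInner_weight,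
      classInner_weight]
  have fp : classInner f p = 1 := by
    rw [finh hψ, finrank_eigS_half h2 hψ _ h10, (cross_half h2 hψ hν hψ' _).1]; simp
  have fm : classInner f m = 1 := by
    rw [finh hψ, finrank_eigS_half h2 hψ _ h10, (cross_half h2 hψ hν hψ' _).1]; simp
  have fp' : classInner f p' = -1 := by
    rw [finh hψ', finrank_eigS_half h2 hψ' _ h10, (cross_half h2 hψ hν hψ' _).2]; simp
  have fm' : classInner f m' = -1 := by
    rw [finh hψ', finrank_eigS_half h2 hψ' _ h10, (cross_half h2 hψ hν hψ' _).2]; simp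
  have ff : classInner f f = 4 := tst_norm h2 hψ hν
  have hexp : f - (p + m - p' - m') = 0 := by
    refine Char.classInner_self_eq_zero ?_
    have sym : ∀ {χ : G1 → ℂ} {c : ℤ}, classInner f χ = c → classInner χ f = c := fun h => by
      rw [← Char.classInner_symm, h, map_intCast]
    simp only [Char.classInner_sub_left, Char.classInner_sub_right, Char.classInner_add_left,
      Char.classInner_add_right, pp, mm, p'p', m'm', mp, m'p', p'p, p'm, m'p, m'm, hpm mp, hpm m'p', hpm p'p,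
      hpm p'm, hpm m'p, hpm m'm, ff, fp, fm, fp', fm', sym (c := 1) (by simpa using fp),
      sym (c := 1) (by simpa using fm), sym (c := -1) (by simpa using fp'), sym (c := -1) (by simpa using fm')]
    norm_num
  have hν0' : eigS ρ (kap (ψ.mulShift ν) (1 : T1)) = ⊥ := by
    refine (Submodule.eq_bot_iff _).2 fun y hy => ?_
    by_contra h0
    obtain ⟨s, hs'⟩ := hs _ y h0 hy
    exact kap_cross h2 hψ hν h10 hs'
  have hpos : classInner f ρ.character ≠ 0 := by
    rw [Char.frobenius _ _ (fun g k => Representation.char_conj ρ g k), tst_inner, classInner_weight,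
      classInner_weight, hν0', finrank_bot, Nat.cast_zero, sub_zero, Nat.cast_ne_zero]
    intro h0
    have := Submodule.finrank_eq_zero.1 h0
    exact hx0 ((Submodule.mem_bot ℂ).1 (this ▸ (show x ∈ eigS ρ (kap ψ (1 : T1)) from hx)))
  have toHom : ∀ {χ : AddChar F ℂ} (hχ : χ ≠ 0) {ε : ℂ} (hε : ε * ε = 1),
      classInner (wh (n := 1) hε h2 hχ).character ρ.character ≠ 0 →
      ∃ g : half (F := F) (n := 1) ε →ₗ[ℂ] V, (∀ a y, g (wh hε h2 hχ a y) = ρ a (g y)) ∧ g ≠ 0 := by
    intro χ hχ ε hε h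
    by_contra! hno
    refine h ?_
    rw [← Char.classInner_symm, Char.classInner_rep, map_natCast, Nat.cast_eq_zero]
    haveI : Subsingleton (Representation.IntertwiningMap (wh (n := 1) hε h2 hχ) ρ) :=
      subsingleton_of_forall_eq 0 fun g => Representation.IntertwiningMap.ext
        (hno g.toLinearMap (fun a y => Representation.IntertwiningMap.isIntertwining _ _ g a y))
    exact Module.finrank_zero_of_subsingleton
  have cen : ∀ {ε : ℂ} (hε : ε * ε = 1) (g : half (F := F) (n := 1) ε →ₗ[ℂ] V),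
      (∀ a y, g (wh hε h2 hψ a y) = ρ a (g y)) → g ≠ 0 → zc 1 h2 hψ * ε = z := by
    intro ε hε g hg hg0
    obtain ⟨y, hy⟩ : ∃ y, g y ≠ 0 := by
      by_contra! h
      exact hg0 (LinearMap.ext h)
    have h := hg (negOne : G1) y
    rw [wh_negOne, map_smul, hz] at h
    exact smul_left_injective ℂ hy h
  have none : ∀ {ε : ℂ} (hε : ε * ε = 1), classInner (wh (n := 1) hε h2 hψ').character ρ.character = 0 := by
    intro ε hε
    by_contra h
    obtain ⟨g, hg, hg0⟩ := toHom hψ' hε h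
    refine hg0 (hom_eq_zero h2 hψ' hε ρ g hg h10 ?_)
    have := eig_of_hom _ _ g hg (wh_lS h2 hψ' hε (1 : T1))
    rw [← mem_eigS, hν0', Submodule.mem_bot] at this
    exact this
  by_cases h1 : classInner p ρ.character ≠ 0
  · obtain ⟨g, hg, hg0⟩ := toHom hψ (one_mul 1) h1
    exact ⟨1, one_mul 1, g, hg, hg0, cen _ g hg hg0⟩
  by_cases h3 : classInner m ρ.character ≠ 0
  · obtain ⟨g, hg, hg0⟩ := toHom hψ ho h3
    exact ⟨-1, ho, g, hg, hg0, cen _ g hg hg0⟩
  push Not at h1 h3
  refine absurd ?_ hpos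
  rw [sub_eq_zero.1 hexp, Char.classInner_sub_left, Char.classInner_sub_left, Char.classInner_add_left, h1, h3,
    none, none]
  norm_num

include h2 hψ in
/-- The universal property for the rank one group. -/
theorem base [FiniteDimensional ℂ V] (ρ : Representation ℂ G1 V) (hs : Single ψ ρ) {ε : ℂ} (hε : ε * ε = 1)
    {t : T1} (ht : t ≠ 0) {x : V} (hx : Eig ρ (kap ψ t) x)
    (hz : ρ (negOne : G1) x = (zc 1 h2 hψ * ε) • x) :
    ∃ f : half (F := F) (n := 1) ε →ₗ[ℂ] V, (∀ g y, f (wh hε h2 hψ g y) = ρ g (f y)) ∧ f (ev hε t) = x := by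
  set z := zc 1 h2 hψ * ε
  let P : Submodule ℂ V :=
    { carrier := {y | ∃ f : half (F := F) (n := 1) ε →ₗ[ℂ] V,
        (∀ g u, f (wh hε h2 hψ g u) = ρ g (f u)) ∧ pr ρ (kap ψ t) y = f (ev hε t)}
      zero_mem' := ⟨0, fun g u => by simp, by simp [pr]⟩
      add_mem' := by
        rintro y y' ⟨f, hf, e⟩ ⟨f', hf', e'⟩
        refine ⟨f + f', fun g u => by simp [hf, hf'], ?_⟩
        rw [LinearMap.add_apply, ← e, ← e', ← prL_apply, ← prL_apply, ← prL_apply, map_add]
      smul_mem' := by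
        rintro c y ⟨f, hf, e⟩
        refine ⟨c • f, fun g u => by simp [hf], ?_⟩
        rw [LinearMap.smul_apply, ← e, ← prL_apply, ← prL_apply, map_smul] }
  let S : Set V := {y | ∃ (f : half (F := F) (n := 1) ε →ₗ[ℂ] V) (u : half (F := F) (n := 1) ε),
    (∀ g u, f (wh hε h2 hψ g u) = ρ g (f u)) ∧ f u = y}
  let W : Subrepresentation ρ :=
    { toSubmodule := Submodule.span ℂ S
      apply_mem_toSubmodule := fun g y hy => by
        refine (Submodule.span_le.2 ?_ : Submodule.span ℂ S ≤ (Submodule.span ℂ S).comap (ρ g)) hy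
        rintro _ ⟨f, u, hf, rfl⟩
        exact Submodule.subset_span ⟨f, _, hf, hf g u⟩ }
  have hWP : Submodule.span ℂ S ≤ P := Submodule.span_le.2 (by
    rintro _ ⟨f, u, hf, rfl⟩
    obtain ⟨c, hc⟩ := Submodule.mem_span_singleton.1
      (eigS_line h2 hψ hε (t := t) (pr_eig (wh hε h2 hψ) (kap ψ t) u))
    exact ⟨c • f, fun g y => by simp [hf], by rw [pr_map _ ρ f hf, ← hc, map_smul, LinearMap.smul_apply]⟩)
  haveI : IsSemisimpleModule (MonoidAlgebra ℂ G1) ρ.asModule := inferInstance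
  haveI := (Representation.isSemisimpleRepresentation_iff_isSemisimpleModule_asModule ρ).2 this
  obtain ⟨W', hW'⟩ := exists_isCompl W
  have hsup : W.toSubmodule ⊔ W'.toSubmodule = ⊤ := congrArg Subrepresentation.toSubmodule hW'.sup_eq_top
  have hinf : W.toSubmodule ⊓ W'.toSubmodule = ⊥ := congrArg Subrepresentation.toSubmodule hW'.inf_eq_bot
  obtain ⟨a, ha, b, hb, rfl⟩ := Submodule.mem_sup.1 (hsup.ge (Submodule.mem_top (x := x)))
  have uniq : ∀ {a' b' : V}, a' ∈ W.toSubmodule → b' ∈ W'.toSubmodule → a' + b' = 0 → b' = 0 := by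
    intro a' b' ha' hb' h
    have : b' ∈ W.toSubmodule ⊓ W'.toSubmodule :=
      ⟨by rw [show b' = -a' from eq_neg_of_add_eq_zero_right h]; exact W.toSubmodule.neg_mem ha', hb'⟩
    rwa [hinf, Submodule.mem_bot] at this
  have hbE : Eig ρ (kap ψ t) b := fun S' => sub_eq_zero.1 <| uniq
    (W.toSubmodule.sub_mem (W.apply_mem_toSubmodule _ ha) (W.toSubmodule.smul_mem _ ha))
    (W'.toSubmodule.sub_mem (W'.apply_mem_toSubmodule _ hb) (W'.toSubmodule.smul_mem _ hb))
    (by have := hx S'; rw [map_add, smul_add] at this; linear_combination (norm := module) this)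
  have hbz : ρ (negOne : G1) b = z • b := sub_eq_zero.1 <| uniq
    (W.toSubmodule.sub_mem (W.apply_mem_toSubmodule _ ha) (W.toSubmodule.smul_mem z ha))
    (W'.toSubmodule.sub_mem (W'.apply_mem_toSubmodule _ hb) (W'.toSubmodule.smul_mem z hb))
    (by rw [map_add, smul_add] at hz; linear_combination (norm := module) hz)
  let Z : Subrepresentation ρ :=
    { toSubmodule := W'.toSubmodule ⊓ LinearMap.ker (ρ (negOne : G1) - z • 1)
      apply_mem_toSubmodule := fun g y hy => by
        refine ⟨W'.apply_mem_toSubmodule g hy.1, ?_⟩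
        have h := hy.2
        simp only [SetLike.mem_coe, LinearMap.mem_ker, LinearMap.sub_apply, LinearMap.smul_apply,
          Module.End.one_apply, sub_eq_zero] at h ⊢
        rw [← Module.End.mul_apply, ← map_mul, negOne_comm, map_mul, Module.End.mul_apply, h, map_smul] }
  have hb0 : b = 0 := by
    by_contra hb0
    obtain ⟨A, hA⟩ := exists_map (F := F) h2 ht (show (1 : T1) ≠ 0 from fun h => one_ne_zero (congrFun h 0 : (1 : F) = 0))
    have hbZ : b ∈ Z.toSubmodule := ⟨hb, by simp [hbz]⟩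
    have hmem := Z.apply_mem_toSubmodule (dElt A) hbZ
    have hEZ : Eig Z.toRepresentation (kap ψ (1 : T1)) ⟨_, hmem⟩ := fun S' => Subtype.ext (by
      have := hbE.dElt_kap ρ A
      rw [hA] at this
      exact this S')
    obtain ⟨ε', hε', f, hf, hf0, hz'⟩ := exists_hom h2 hψ Z.toRepresentation
      (fun φ y hy he => hs φ y.1 (fun h => hy (Subtype.ext h)) fun S' => congrArg Subtype.val (he S'))
      (z := z) (fun y => Subtype.ext (by
        have := y.2.2
        simp only [SetLike.mem_coe, LinearMap.mem_ker, LinearMap.sub_apply, LinearMap.smul_apply,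
          Module.End.one_apply, sub_eq_zero] at this
        exact this))
      hEZ (fun h => hb0 (by
        have e := congrArg (fun y => ρ (dElt A)⁻¹ y) (congrArg Subtype.val h)
        simpa [← Module.End.mul_apply, ← map_mul] using e))
    obtain rfl : ε' = ε := mul_left_cancel₀ (left_ne_zero_of_mul_eq_one (zc_sq (n := 1) h2 hψ)) hz'
    refine hf0 (LinearMap.ext fun u => Subtype.ext ?_)
    have h1 : ((f u : Z.toSubmodule) : V) ∈ W.toSubmodule :=
      Submodule.subset_span ⟨Z.toSubmodule.subtype ∘ₗ f, u, fun g y => congrArg Subtype.val (hf g y), rfl⟩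
    have h3 : ((f u : Z.toSubmodule) : V) ∈ W.toSubmodule ⊓ W'.toSubmodule := ⟨h1, (f u).2.1⟩
    rwa [hinf, Submodule.mem_bot] at h3
  subst hb0
  obtain ⟨f, hf, e⟩ := hWP ha
  rw [add_zero] at hx ⊢
  exact ⟨f, hf, by rw [← e, pr_of_eig ρ hx]⟩

end SL2

end Cfsg.Agent.WeilOne
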