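import Cfsg.Agent.Lib.Lie.WeilRankOne.Base

/-!
# Small representations have weights of rank at most one
-/

set_option autoImplicit false
set_option linter.unusedSectionVars false

namespace Cfsg.Agent.WeilOne

open Matrix Cfsg.Agent.Small.PSpn Cfsg.Agent.SpBound Cfsg.Agent.Weil

variable {F : Type*} [Field F] [Fintype F] [DecidableEq F]

/-! ### Isometries of diagonal forms -/

/-- The matrices preserving a diagonal form. -/
def osol {k : ℕ} (d : Fin k → F) : Finset (Matrix (Fin k) (Fin k) F) :=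
  Finset.univ.filter fun g => g * Matrix.diagonal d * gᵀ = Matrix.diagonal d

theorem mem_osol {k : ℕ} {d : Fin k → F} {g : Matrix (Fin k) (Fin k) F} :
    g ∈ osol d ↔ g * Matrix.diagonal d * gᵀ = Matrix.diagonal d := by simp [osol]

theorem osol_entry {k : ℕ} {d : Fin k → F} {g : Matrix (Fin k) (Fin k) F} (h : g ∈ osol d) (i j : Fin k) :
    ∑ l, g i l * d l * g j l = if i = j then d i else 0 := by
  have := congrFun (congrFun (mem_osol.1 h) i) j
  simpa [Matrix.mul_apply, Matrix.diagonal_apply, mul_ite, Finset.sum_ite_eq', mul_comm, mul_left_comm] using this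

/-- Removing the first row and column. -/
theorem card_osol_succ {k : ℕ} (d : Fin (k + 1) → F) (hd : ∀ i, d i ≠ 0) (N : ℕ)
    (hN : (Finset.univ.filter fun r : Fin (k + 1) → F => ∑ l, r l * d l * r l = d 0).card ≤ N) :
    (osol d).card ≤ (osol (d ∘ Fin.succ)).card * N := by
  classical
  refine (Finset.card_le_mul_card_image (f := fun g : Matrix (Fin (k + 1)) (Fin (k + 1)) F => g 0) (osol d)
    (osol (d ∘ Fin.succ)).card fun r hr => ?_).trans (Nat.mul_le_mul_left _ ((Finset.card_le_card ?_).trans hN))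
  · obtain ⟨g₀, hg₀, rfl⟩ := Finset.mem_image.1 hr
    have hu : IsUnit g₀.det := by
      have h := congrArg Matrix.det (mem_osol.1 hg₀)
      rw [Matrix.det_mul, Matrix.det_mul, Matrix.det_transpose, Matrix.det_diagonal] at h
      refine isUnit_iff_ne_zero.2 fun h0 => (Finset.prod_ne_zero_iff (s := (Finset.univ : Finset (Fin (k + 1))))).2 (fun i _ => hd i) ?_
      rw [← h, h0, mul_zero]
    have hinv : g₀⁻¹ * Matrix.diagonal d * (g₀⁻¹)ᵀ = Matrix.diagonal d := by
      conv_lhs => rw [← mem_osol.1 hg₀]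
      rw [← Matrix.mul_assoc, ← Matrix.mul_assoc, Matrix.nonsing_inv_mul _ hu, Matrix.one_mul, Matrix.mul_assoc,
        ← Matrix.transpose_mul, Matrix.nonsing_inv_mul _ hu, Matrix.transpose_one, Matrix.mul_one]
    refine Finset.card_le_card_of_injOn (fun g => (g * g₀⁻¹).submatrix Fin.succ Fin.succ) (fun g hg => ?_) ?_
    · obtain ⟨hg, hgr⟩ := Finset.mem_filter.1 hg
      have hh : g * g₀⁻¹ ∈ osol d := mem_osol.2 (by
        rw [Matrix.transpose_mul]
        calc g * g₀⁻¹ * Matrix.diagonal d * ((g₀⁻¹)ᵀ * gᵀ)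
            = g * (g₀⁻¹ * Matrix.diagonal d * (g₀⁻¹)ᵀ) * gᵀ := by simp only [Matrix.mul_assoc]
          _ = _ := by rw [hinv]; exact mem_osol.1 hg)
      have hrow : ∀ l, (g * g₀⁻¹) 0 l = if l = 0 then 1 else 0 := fun l => by
        have : (g * g₀⁻¹) 0 l = (g₀ * g₀⁻¹) 0 l := by simp only [Matrix.mul_apply, hgr]
        rw [this, Matrix.mul_nonsing_inv _ hu, Matrix.one_apply]
        exact if_congr eq_comm rfl rfl
      have hcol : ∀ i : Fin k, (g * g₀⁻¹) i.succ 0 = 0 := fun i => by
        have h := osol_entry hh i.succ 0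
        rw [if_neg (Fin.succ_ne_zero i), Fintype.sum_eq_single 0 (fun l hl => by rw [hrow, if_neg hl, mul_zero]),
          hrow, if_pos rfl, mul_one] at h
        exact (mul_eq_zero.1 h).resolve_right (hd 0)
      refine mem_osol.2 ?_
      ext i j
      have h := osol_entry hh i.succ j.succ
      rw [Fin.sum_univ_succ, hcol i, zero_mul, zero_mul, zero_add] at h
      simp only [Fin.succ_inj] at h
      simp only [Matrix.mul_apply, Matrix.diagonal_apply, Matrix.submatrix_apply, Matrix.transpose_apply, mul_ite,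
        mul_zero, Finset.sum_ite_eq', Finset.mem_univ, if_true, Function.comp_apply]
      exact h
    · intro g hg g' hg' h
      obtain ⟨hg, hgr⟩ := Finset.mem_filter.1 hg
      obtain ⟨hg', hgr'⟩ := Finset.mem_filter.1 hg'
      have key : ∀ x ∈ osol d, x 0 = g₀ 0 → (∀ l, (x * g₀⁻¹) 0 l = if l = 0 then 1 else 0) ∧
          ∀ i : Fin k, (x * g₀⁻¹) i.succ 0 = 0 := by
        intro x hx hxr
        have hh : x * g₀⁻¹ ∈ osol d := mem_osol.2 (by
          rw [Matrix.transpose_mul]
          calc x * g₀⁻¹ * Matrix.diagonal d * ((g₀⁻¹)ᵀ * xᵀ)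
              = x * (g₀⁻¹ * Matrix.diagonal d * (g₀⁻¹)ᵀ) * xᵀ := by simp only [Matrix.mul_assoc]
            _ = _ := by rw [hinv]; exact mem_osol.1 hx)
        have hrow : ∀ l, (x * g₀⁻¹) 0 l = if l = 0 then 1 else 0 := fun l => by
          have : (x * g₀⁻¹) 0 l = (g₀ * g₀⁻¹) 0 l := by simp only [Matrix.mul_apply, hxr]
          rw [this, Matrix.mul_nonsing_inv _ hu, Matrix.one_apply]
          exact if_congr eq_comm rfl rfl
        refine ⟨hrow, fun i => ?_⟩
        have h := osol_entry hh i.succ 0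
        rw [if_neg (Fin.succ_ne_zero i), Fintype.sum_eq_single 0 (fun l hl => by rw [hrow, if_neg hl, mul_zero]),
          hrow, if_pos rfl, mul_one] at h
        exact (mul_eq_zero.1 h).resolve_right (hd 0)
      obtain ⟨r1, c1⟩ := key g hg hgr
      obtain ⟨r2, c2⟩ := key g' hg' hgr'
      have heq : g * g₀⁻¹ = g' * g₀⁻¹ := by
        ext i j
        refine Fin.cases ?_ (fun i => ?_) i
        · rw [r1, r2]
        · refine Fin.cases ?_ (fun j => ?_) j
          · rw [c1, c2]
          · exact congrFun (congrFun h i) j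
      have := congrArg (· * g₀) heq
      simpa [Matrix.mul_assoc, Matrix.nonsing_inv_mul _ hu] using this
  · intro r hr
    obtain ⟨g, hg, rfl⟩ := Finset.mem_image.1 hr
    have h := osol_entry hg 0 0
    rw [if_pos rfl] at h
    exact Finset.mem_filter.2 ⟨Finset.mem_univ _, h⟩

theorem card_quadric {k : ℕ} (d : Fin (k + 1) → F) (hd : ∀ i, d i ≠ 0) (c : F) :
    (Finset.univ.filter fun r : Fin (k + 1) → F => ∑ l, r l * d l * r l = c).card ≤ 2 * Fintype.card F ^ k := by
  classical
  refine (Finset.card_le_mul_card_image (f := fun r : Fin (k + 1) → F => r ∘ Fin.succ) _ 2 fun s hs => ?_).trans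
    (Nat.mul_le_mul_left _ ((Finset.card_le_univ _).trans (by simp)))
  obtain ⟨r₀, hr₀, rfl⟩ := Finset.mem_image.1 hs
  refine (Finset.card_le_card (t := ({r₀ 0, -r₀ 0} : Finset F).image fun x => Fin.cons x (r₀ ∘ Fin.succ))
    fun r hr => ?_).trans (Finset.card_image_le.trans Finset.card_le_two)
  obtain ⟨hr, hrs⟩ := Finset.mem_filter.1 hr
  have h := (Finset.mem_filter.1 hr).2
  have h0 := (Finset.mem_filter.1 hr₀).2
  rw [Fin.sum_univ_succ] at h h0
  simp only [show ∀ i, r (Fin.succ i) = r₀ i.succ from fun i => congrFun hrs i] at h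
  refine Finset.mem_image.2 ⟨r 0, ?_, ?_⟩
  · rw [Finset.mem_insert, Finset.mem_singleton]
    exact mul_self_eq_mul_self_iff.1 (mul_right_cancel₀ (hd 0) (by linear_combination h - h0))
  · funext i
    refine Fin.cases (by simp) (fun i => ?_) i
    simp only [Fin.cons_succ, Function.comp_apply]
    exact (congrFun hrs i).symm

theorem card_conic (d : Fin 2 → F) (hd : ∀ i, d i ≠ 0) (h2 : (2 : F) ≠ 0) :
    (Finset.univ.filter fun r : Fin 2 → F => ∑ l, r l * d l * r l = d 0).card ≤ Fintype.card F + 1 := by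
  classical
  set p : Fin 2 → F := ![1, 0]
  refine (Finset.card_le_card (t := insert p ((Finset.univ.filter fun r : Fin 2 → F =>
    ∑ l, r l * d l * r l = d 0).erase p)) fun r hr => ?_).trans ((Finset.card_insert_le _ _).trans ?_)
  · rw [Finset.mem_insert, Finset.mem_erase]
    tauto
  refine Nat.add_le_add_right ?_ 1
  refine (Finset.card_le_card_of_injOn (fun r : Fin 2 → F => r 1 / (r 0 - 1)) (t := (Finset.univ : Finset F))
    (fun _ _ => Finset.mem_univ _) ?_).trans (le_of_eq Finset.card_univ)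
  have key : ∀ r ∈ (Finset.univ.filter fun r : Fin 2 → F => ∑ l, r l * d l * r l = d 0).erase p,
      r 1 = r 1 / (r 0 - 1) * (r 0 - 1) ∧
        d 0 * (r 0 + 1) + d 1 * (r 1 / (r 0 - 1)) ^ 2 * (r 0 - 1) = 0 := by
    intro r hr
    obtain ⟨hne, hr⟩ := Finset.mem_erase.1 hr
    have h := (Finset.mem_filter.1 hr).2
    rw [Fin.sum_univ_two] at h
    have h0 : r 0 - 1 ≠ 0 := fun e => hne (funext fun i => by
      have e' : r 0 = 1 := sub_eq_zero.1 e
      fin_cases i
      · simp [p, e']
      · have h1 : r 1 * r 1 = 0 := mul_right_cancel₀ (hd 1) (by rw [e'] at h; linear_combination h)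
        simp [p, mul_self_eq_zero.1 h1])
    refine ⟨(div_mul_cancel₀ _ h0).symm, mul_right_cancel₀ h0 ?_⟩
    field_simp
    linear_combination h
  intro r hr r' hr' he
  obtain ⟨e1, e2⟩ := key r hr
  obtain ⟨f1, f2⟩ := key r' hr'
  simp only at he
  rw [← he] at f1 f2
  set t := r 1 / (r 0 - 1)
  have hne : d 0 + d 1 * t ^ 2 ≠ 0 := fun h => mul_ne_zero h2 (hd 0) (by linear_combination e2 - r 0 * h + h)
  have h00 : r 0 = r' 0 := mul_left_cancel₀ hne (by linear_combination e2 - f2)
  funext i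
  fin_cases i
  · exact h00
  · show r 1 = r' 1
    rw [e1, f1, h00]

/-- The bound for the number of isometries. -/
def obd (q : ℕ) : ℕ → ℕ
  | 0 => 1
  | 1 => 2
  | 2 => 2 * (q + 1)
  | k + 3 => 2 * q ^ (k + 2) * obd q (k + 2)

theorem card_osol_le (h2 : (2 : F) ≠ 0) : ∀ (k : ℕ) (d : Fin k → F), (∀ i, d i ≠ 0) →
    (osol d).card ≤ obd (Fintype.card F) k
  | 0, d, _ => by
    rw [obd]
    exact Finset.card_le_one.2 fun a _ b _ => by ext i; exact i.elim0
  | 1, d, hd => by
    have h := card_osol_succ d hd _ (card_quadric d hd _)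
    have h0 := card_osol_le h2 0 (d ∘ Fin.succ) (fun i => hd _)
    calc (osol d).card ≤ (osol (d ∘ Fin.succ)).card * (2 * Fintype.card F ^ 0) := h
      _ ≤ 1 * (2 * Fintype.card F ^ 0) := Nat.mul_le_mul_right _ h0
      _ = _ := by simp [obd]
  | 2, d, hd => by
    have h := card_osol_succ d hd _ (card_conic d hd h2)
    have h1 := card_osol_le h2 1 (d ∘ Fin.succ) (fun i => hd _)
    exact h.trans (Nat.mul_le_mul_right _ h1)
  | k + 3, d, hd => by
    have h := card_osol_succ d hd _ (card_quadric d hd _)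
    have h1 := card_osol_le h2 (k + 2) (d ∘ Fin.succ) (fun i => hd _)
    exact (h.trans (Nat.mul_le_mul_right _ h1)).trans (le_of_eq (Nat.mul_comm _ _))

theorem frames_bound {q n : ℕ} (hq : 3 ≤ q) : ∀ k, 2 ≤ k → k ≤ n →
    (q ^ n - 1) * (q ^ n - q) * obd q k ≤ 2 * (q + 1) * ∏ i : Fin k, (q ^ n - q ^ i.val) := by
  intro k hk hkn
  induction k, hk using Nat.le_induction with
  | base => rw [Fin.prod_univ_two]; simp [obd]; exact le_of_eq (by ring)
  | succ k hk ih =>
    obtain ⟨m, rfl⟩ := Nat.exists_eq_add_of_le hk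
    rw [show 2 + m + 1 = m + 3 by omega, obd, Fin.prod_univ_castSucc]
    simp only [Fin.val_castSucc, Fin.val_last]
    have h := ih (by omega)
    rw [show 2 + m = m + 2 by omega] at h
    have hpow : 2 * q ^ (m + 2) ≤ q ^ n - q ^ (m + 2) := by
      have h1 : q ^ (m + 3) ≤ q ^ n := Nat.pow_le_pow_right (by omega) (by omega)
      have h3 : 3 * q ^ (m + 2) ≤ q ^ (m + 3) := by
        rw [pow_succ' q (m + 2)]; exact Nat.mul_le_mul_right _ hq
      omega
    calc (q ^ n - 1) * (q ^ n - q) * (2 * q ^ (m + 2) * obd q (m + 2))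
        = (q ^ n - 1) * (q ^ n - q) * obd q (m + 2) * (2 * q ^ (m + 2)) := by ring
      _ ≤ 2 * (q + 1) * (∏ i : Fin (m + 2), (q ^ n - q ^ i.val)) * (q ^ n - q ^ (m + 2)) := Nat.mul_le_mul h hpow
      _ = _ := by ring

theorem obd_pos {q : ℕ} (hq : 0 < q) : ∀ k, 0 < obd q k
  | 0 => by simp [obd]
  | 1 => by simp [obd]
  | 2 => by simp [obd]
  | k + 3 => by rw [obd]; exact Nat.mul_pos (Nat.mul_pos two_pos (pow_pos hq _)) (obd_pos hq _)

/-! ### Weights -/

section Weights

variable {n : ℕ} [NeZero n]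

local notation "T" => Fin n → F
local notation "Mn" => Matrix (Fin n) (Fin n) F

theorem exists_frame (h2 : (2 : F) ≠ 0) {M : Mn} (hM : Mᵀ = M) :
    ∃ (k : ℕ) (X : Matrix (Fin n) (Fin k) F) (d : Fin k → F),
      k ≤ n ∧ (∀ i, d i ≠ 0) ∧ LinearIndependent F X.col ∧ M = X * Matrix.diagonal d * Xᵀ := by
  classical
  haveI : Invertible (2 : F) := invertibleOfNonzero h2
  obtain ⟨b, hb⟩ := LinearMap.BilinForm.exists_orthogonal_basis (B := Matrix.toBilin' M)
    (LinearMap.BilinForm.isSymm_iff.mp (LinearMap.BilinForm.isSymm_def.2 fun x y => by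
      rw [Matrix.toBilin'_apply', Matrix.toBilin'_apply', Matrix.dotProduct_mulVec, ← Matrix.mulVec_transpose, hM,
        dotProduct_comm]))
  set b' := b.reindex (finCongr (show Module.finrank F T = n by simp))
  set P : Mn := (Pi.basisFun F (Fin n)).toMatrix b' with hP
  set Q : Mn := b'.toMatrix (Pi.basisFun F (Fin n)) with hQ
  have hPQ : P * Q = 1 := Module.Basis.toMatrix_mul_toMatrix_flip _ _
  have hQP : Q * P = 1 := Module.Basis.toMatrix_mul_toMatrix_flip _ _
  have hdiag : (Pᵀ * M * P).IsDiag := fun i j hij => by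
    have h : (Pᵀ * M * P) i j = Matrix.toBilin' M (b' i) (b' j) := by
      rw [Matrix.toBilin'_apply', Matrix.mul_assoc, Matrix.mul_apply]
      simp only [dotProduct, Matrix.mulVec, Matrix.mul_apply, hP, Matrix.transpose_apply, Module.Basis.toMatrix_apply,
        Pi.basisFun_repr]
    show (Pᵀ * M * P) i j = 0
    rw [h, Module.Basis.reindex_apply, Module.Basis.reindex_apply]
    exact hb (fun e => hij ((finCongr _).symm.injective e))
  set D := fun i => (Pᵀ * M * P) i i
  have hMD : M = Qᵀ * Matrix.diagonal D * Q := by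
    rw [show Matrix.diagonal D = Pᵀ * M * P from hdiag.diagonal_diag]
    simp only [← Matrix.mul_assoc, ← Matrix.transpose_mul, hPQ, Matrix.transpose_one, Matrix.one_mul]
    rw [Matrix.mul_assoc, hPQ, Matrix.mul_one]
  set σ := (Fintype.equivFin {i // D i ≠ 0}).symm
  refine ⟨Fintype.card {i // D i ≠ 0}, Matrix.of fun l j => Q (σ j).1 l, fun j => D (σ j).1,
    (Fintype.card_subtype_le _).trans (le_of_eq (Fintype.card_fin n)), fun j => (σ j).2, ?_, ?_⟩
  · have hu : IsUnit Q := ⟨⟨Q, P, hQP, hPQ⟩, rfl⟩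
    exact (Matrix.linearIndependent_rows_iff_isUnit.2 hu).comp (fun j => (σ j).1)
      (Subtype.val_injective.comp σ.injective)
  · rw [hMD]
    ext a c
    simp only [Matrix.mul_apply, Matrix.diagonal_apply, Matrix.transpose_apply, Matrix.of_apply, mul_ite, mul_zero,
      Finset.sum_ite_eq', Finset.mem_univ, if_true]
    rw [← Finset.sum_filter_of_ne (p := fun i => D i ≠ 0) (fun i _ h e => h (by rw [e, mul_zero, zero_mul])),
      Finset.sum_subtype (p := fun i => D i ≠ 0) _ (by simp), ← σ.sum_comp]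

theorem sumExtend_inl {k : ℕ} {v : Fin k → T} (hv : LinearIndependent F v) (j : Fin k) :
    Module.Basis.sumExtend hv (Sum.inl j) = v j := by
  simp [Module.Basis.sumExtend]
  rfl

theorem exists_extend {k : ℕ} {X X' : Matrix (Fin n) (Fin k) F} (hX : LinearIndependent F X.col)
    (hX' : LinearIndependent F X'.col) : ∃ A : (Mn)ˣ, (A : Mn) * X = X' := by
  classical
  set b := Module.Basis.sumExtend hX
  set b' := Module.Basis.sumExtend hX'
  haveI := FiniteDimensional.fintypeBasisIndex b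
  haveI := FiniteDimensional.fintypeBasisIndex b'
  haveI : Fintype (Module.Basis.sumExtendIndex hX) := Fintype.ofFinite _
  haveI : Fintype (Module.Basis.sumExtendIndex hX') := Fintype.ofFinite _
  have hc : Fintype.card (Module.Basis.sumExtendIndex hX) = Fintype.card (Module.Basis.sumExtendIndex hX') := by
    have h1 := Module.finrank_eq_card_basis b
    have h3 := Module.finrank_eq_card_basis b'
    have e1 : Module.finrank F T = k + Fintype.card (Module.Basis.sumExtendIndex hX) := by
      rw [h1, ← Nat.card_eq_fintype_card, Nat.card_sum, Nat.card_eq_fintype_card, Nat.card_eq_fintype_card, Fintype.card_fin]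
    have e3 : Module.finrank F T = k + Fintype.card (Module.Basis.sumExtendIndex hX') := by
      rw [h3, ← Nat.card_eq_fintype_card, Nat.card_sum, Nat.card_eq_fintype_card, Nat.card_eq_fintype_card, Fintype.card_fin]
    omega
  set L := b.equiv b' (Equiv.sumCongr (Equiv.refl _) (Fintype.equivOfCardEq hc))
  refine ⟨⟨LinearMap.toMatrix' L.toLinearMap, LinearMap.toMatrix' L.symm.toLinearMap, ?_, ?_⟩, ?_⟩
  · rw [← LinearMap.toMatrix'_comp]; simp
  · rw [← LinearMap.toMatrix'_comp]; simp
  · refine Matrix.ext_col fun j => ?_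
    show (LinearMap.toMatrix' L.toLinearMap *ᵥ X.col j) = X'.col j
    rw [LinearMap.toMatrix'_mulVec, LinearEquiv.coe_coe,
      show X.col j = b (Sum.inl j) from (sumExtend_inl hX j).symm, Module.Basis.equiv_apply]
    exact sumExtend_inl hX' j

open scoped _root_.Classical in
theorem card_frames {k : ℕ} (hk : k ≤ n) :
    (Finset.univ.filter fun X : Matrix (Fin n) (Fin k) F => LinearIndependent F X.col).card =
      ∏ i : Fin k, (Fintype.card F ^ n - Fintype.card F ^ i.val) := by
  classical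
  have h := card_linearIndependent (K := F) (V := T) (k := k) (by simpa using hk)
  rw [Module.finrank_fin_fun] at h
  rw [← h, ← Fintype.card_subtype, ← Nat.card_eq_fintype_card]
  exact Nat.card_congr
    { toFun := fun X => ⟨X.1.col, X.2⟩
      invFun := fun s => ⟨(Matrix.of s.1)ᵀ, s.2⟩
      left_inv := fun X => Subtype.ext rfl
      right_inv := fun s => Subtype.ext rfl }

open scoped _root_.Classical in
theorem card_fibre {k : ℕ} {d : Fin k → F} (hd : ∀ i, d i ≠ 0) {X : Matrix (Fin n) (Fin k) F}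
    (hX : LinearIndependent F X.col) :
    (Finset.univ.filter fun Y : Matrix (Fin n) (Fin k) F =>
      LinearIndependent F Y.col ∧ Y * Matrix.diagonal d * Yᵀ = X * Matrix.diagonal d * Xᵀ).card ≤ (osol d).card := by
  classical
  have hinj : ∀ Z : Matrix (Fin n) (Fin k) F, LinearIndependent F Z.col → ∃ L : Matrix (Fin k) (Fin n) F, L * Z = 1 :=
    fun Z hZ => by
      obtain ⟨g, hg⟩ := LinearMap.exists_leftInverse_of_injective Z.mulVecLin
        (LinearMap.ker_eq_bot.2 (Matrix.mulVec_injective_iff.2 hZ))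
      refine ⟨LinearMap.toMatrix' g, ?_⟩
      rw [← LinearMap.toMatrix'_toLin' Z, ← LinearMap.toMatrix'_comp, Matrix.toLin'_apply', hg, LinearMap.toMatrix'_id]
  obtain ⟨L, hL⟩ := hinj X hX
  set D := Matrix.diagonal d
  set Di := Matrix.diagonal fun i => (d i)⁻¹
  have hDD : D * Di = 1 := by
    rw [Matrix.diagonal_mul_diagonal, ← Matrix.diagonal_one]
    congr 1
    funext i
    exact mul_inv_cancel₀ (hd i)
  have key : ∀ Y ∈ (Finset.univ.filter fun Y : Matrix (Fin n) (Fin k) F =>
      LinearIndependent F Y.col ∧ Y * D * Yᵀ = X * D * Xᵀ), Y = X * (L * Y) := by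
    intro Y hY
    obtain ⟨hYi, hYe⟩ := (Finset.mem_filter.1 hY).2
    obtain ⟨L', hL'⟩ := hinj Y hYi
    have e : Y = X * (D * (Xᵀ * (L'ᵀ * Di))) := by
      calc Y = Y * D * Di := by rw [Matrix.mul_assoc, hDD, Matrix.mul_one]
        _ = Y * D * (Yᵀ * L'ᵀ) * Di := by rw [← Matrix.transpose_mul, hL', Matrix.transpose_one, Matrix.mul_one]
        _ = Y * D * Yᵀ * L'ᵀ * Di := by simp only [Matrix.mul_assoc]
        _ = _ := by rw [hYe]; simp only [Matrix.mul_assoc]
    conv_rhs => rw [e, ← Matrix.mul_assoc L X, hL, Matrix.one_mul]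
    exact e
  refine Finset.card_le_card_of_injOn (fun Y => L * Y) (fun Y hY => ?_) fun Y hY Y' hY' h => ?_
  · refine mem_osol.2 ?_
    have he := (Finset.mem_filter.1 hY).2.2
    calc L * Y * D * (L * Y)ᵀ = L * (Y * D * Yᵀ) * Lᵀ := by
          rw [Matrix.transpose_mul]; simp only [Matrix.mul_assoc]
      _ = (L * X) * D * (L * X)ᵀ := by rw [he, Matrix.transpose_mul]; simp only [Matrix.mul_assoc]
      _ = D := by rw [hL, Matrix.transpose_one, Matrix.one_mul, Matrix.mul_one]
  · simp only at h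
    rw [key Y hY, key Y' hY', h]

variable {V : Type*} [AddCommGroup V] [Module ℂ V]
variable (ρ : Representation ℂ (Matrix.symplecticGroup (Fin n) F) V)

theorem Eig.dElt_sym {ψ : AddChar F ℂ} {M : Mn} {y : V} (h : Eig ρ (symPair ψ M) y) (A : (Mn)ˣ) :
    Eig ρ (symPair ψ ((A : Mn) * M * (A : Mn)ᵀ)) (ρ (dElt A) y) := by
  intro S
  have hS : (A : Mn)ᵀ * (S : Mn) * (A : Mn) ∈ symH F n := by
    rw [mem_sym, Matrix.transpose_mul, Matrix.transpose_mul, Matrix.transpose_transpose,
      show (S : Mn)ᵀ = (S : Mn) from S.2, Matrix.mul_assoc]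
  have e : congrInv A ⟨_, hS⟩ = S := by
    apply Subtype.ext
    show ((A⁻¹ : (Mn)ˣ) : Mn)ᵀ * ((A : Mn)ᵀ * (S : Mn) * (A : Mn)) * ((A⁻¹ : (Mn)ˣ) : Mn) = S
    rw [← Matrix.mul_assoc, ← Matrix.mul_assoc, ← Matrix.transpose_mul, Units.mul_inv, Matrix.transpose_one,
      Matrix.one_mul, Matrix.mul_assoc, Units.mul_inv, Matrix.mul_one]
  have := Eig.map_dElt ρ h A ⟨_, hS⟩
  rw [e] at this
  rw [this, symPair_apply, symPair_apply]
  show ψ (M * ((A : Mn)ᵀ * (S : Mn) * (A : Mn))).trace • _ = _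
  congr 2
  rw [← Matrix.mul_assoc, Matrix.trace_mul_comm, ← Matrix.mul_assoc, ← Matrix.mul_assoc]

/-- A representation below the bound has weights of rank at most one. -/
theorem rankOne_of_small (hodd : Odd (Fintype.card F)) [FiniteDimensional ℂ V]
    (hdim : Module.finrank ℂ V * (2 * (Fintype.card F + 1)) <
      (Fintype.card F ^ n - 1) * (Fintype.card F ^ n - Fintype.card F)) : RankOne ρ := by
  classical
  intro φ y hy0 hy
  have h2 : (2 : F) ≠ 0 := two_ne (hodd := hodd)
  obtain ⟨ψ, hψx⟩ := AddChar.exists_apply_ne_zero.2 (one_ne_zero (α := F))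
  have hψ : ψ ≠ 0 := fun h => hψx (by rw [h, AddChar.zero_apply])
  obtain ⟨⟨M, hM⟩, rfl⟩ := (symPair_bijective hodd hψ).2 φ
  obtain ⟨k, X, d, hkn, hd, hX, hMX⟩ := exists_frame h2 hM
  by_cases hk : k ≤ 1
  · rcases Nat.le_one_iff_eq_zero_or_eq_one.1 hk with rfl | rfl
    · refine ⟨ψ, hψ, 0, ?_⟩
      have hM0 : M = 0 := by rw [hMX]; ext i j; simp [Matrix.mul_apply]
      ext S
      simp [symPair_apply, kap_zero, hM0]
    · have hne : -2 * d 0 ≠ 0 := mul_ne_zero (neg_ne_zero.2 h2) (hd 0)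
      refine ⟨ψ.mulShift (-2 * d 0), AddChar.IsPrimitive.of_ne_one hψ hne, fun i => X i 0, ?_⟩
      ext S
      rw [kap_apply, AddChar.mulShift_apply]
      show ψ (M * (S : Mn)).trace = _
      congr 1
      rw [hMX]
      simp only [Matrix.trace, Matrix.diag, Matrix.mul_apply, Fin.sum_univ_one, Matrix.transpose_apply,
        Matrix.diagonal_apply_eq, dotProduct, Matrix.mulVec, Finset.mul_sum, ← Finset.sum_neg_distrib]
      rw [Finset.sum_comm]
      refine Finset.sum_congr rfl fun i _ => Finset.sum_congr rfl fun j _ => ?_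
      field_simp
  exfalso
  push Not at hk
  set q := Fintype.card F
  set s : Finset (Matrix (Fin n) (Fin k) F) := Finset.univ.filter fun X => LinearIndependent F X.col
  set f : Matrix (Fin n) (Fin k) F → Mn := fun Y => Y * Matrix.diagonal d * Yᵀ
  have hfib : s.card ≤ (osol d).card * (s.image f).card := by
    refine Finset.card_le_mul_card_image _ _ fun m hm => ?_
    obtain ⟨Z, hZ, rfl⟩ := Finset.mem_image.1 hm
    refine le_trans (Finset.card_le_card fun Y hY => ?_) (card_fibre hd (Finset.mem_filter.1 hZ).2)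
    obtain ⟨hY, hYe⟩ := Finset.mem_filter.1 hY
    exact Finset.mem_filter.2 ⟨Finset.mem_univ _, (Finset.mem_filter.1 hY).2, hYe⟩
  have horb : ∀ m ∈ s.image f, ∃ A : (Mn)ˣ, m = (A : Mn) * M * (A : Mn)ᵀ := fun m hm => by
    obtain ⟨Z, hZ, rfl⟩ := Finset.mem_image.1 hm
    obtain ⟨A, hA⟩ := exists_extend hX (Finset.mem_filter.1 hZ).2
    refine ⟨A, ?_⟩
    rw [hMX]
    show Z * _ * Zᵀ = _
    rw [← hA, Matrix.transpose_mul]
    simp only [Matrix.mul_assoc]
  choose A hA using horb
  let w : {m // m ∈ s.image f} → V := fun m => ρ (dElt (A m.1 m.2)) y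
  have hw : ∀ m, Eig ρ (symPair ψ m.1) (w m) := fun m => by
    have := Eig.dElt_sym ρ hy (A m.1 m.2)
    rwa [← hA m.1 m.2] at this
  have hsym : ∀ m : {m // m ∈ s.image f}, m.1 ∈ symH F n := fun m => by
    rw [mem_sym, hA m.1 m.2, Matrix.transpose_mul, Matrix.transpose_mul, Matrix.transpose_transpose,
      show Mᵀ = M from hM, Matrix.mul_assoc]
  have hli : LinearIndependent ℂ w := by
    rw [Fintype.linearIndependent_iff]
    intro c hc m
    have hz := Cfsg.Agent.Small.Unitary.eigen_sum_zero (fun S : symH F n => ρ (lS S)) Finset.univ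
      (fun m : {m // m ∈ s.image f} => c m • w m) (fun m S => symPair ψ m.1 S)
      (fun m _ S => by rw [map_smul, hw m S, smul_comm])
      (fun m _ m' _ h => Subtype.ext (show (⟨m.1, hsym m⟩ : symH F n).1 = (⟨m'.1, hsym m'⟩ : symH F n).1 from congrArg Subtype.val ((symPair_bijective hodd hψ).1
        (a₁ := ⟨m.1, hsym m⟩) (a₂ := ⟨m'.1, hsym m'⟩) (DFunLike.ext _ _ (congrFun h)))))
      hc m (Finset.mem_univ m)
    refine (smul_eq_zero.1 hz).resolve_right fun h => hy0 ?_
    have h3 := congrArg (ρ (dElt (A m.1 m.2))⁻¹) h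
    rw [map_zero, show w m = ρ (dElt (A m.1 m.2)) y from rfl, ← Module.End.mul_apply, ← map_mul,
      inv_mul_cancel, map_one] at h3
    exact h3
  have hle := hli.fintype_card_le_finrank
  rw [Fintype.card_coe] at hle
  have hq : 3 ≤ q := by
    obtain ⟨m, hm⟩ := hodd
    have : 1 < q := Fintype.one_lt_card
    omega
  have hb := frames_bound (n := n) hq k hk hkn
  have ho := card_osol_le h2 k d hd
  have hs : s.card = ∏ i : Fin k, (q ^ n - q ^ i.val) := card_frames hkn
  have h1 : (q ^ n - 1) * (q ^ n - q) * obd q k ≤ Module.finrank ℂ V * (2 * (q + 1)) * obd q k := by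
    calc (q ^ n - 1) * (q ^ n - q) * obd q k ≤ 2 * (q + 1) * s.card := hs.symm ▸ hb
      _ ≤ 2 * (q + 1) * (obd q k * Module.finrank ℂ V) :=
        Nat.mul_le_mul_left _ (hfib.trans (Nat.mul_le_mul ho hle))
      _ = _ := by ring
  exact absurd (Nat.le_of_mul_le_mul_right h1 (obd_pos (by omega) k)) (not_le.2 hdim)

end Weights

end Cfsg.Agent.WeilOne
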