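import Cfsg.Agent.Lib.Lie.WeilRankOne.Step
import Cfsg.Agent.Lib.Lie.WeilRankOne.Gap

/-!
# Classification of the small representations of symplectic groups of odd characteristic
-/

set_option autoImplicit false
set_option linter.unusedSectionVars false
set_option linter.style.haveILetI false

namespace Cfsg.Agent.WeilOne

open Matrix Cfsg Cfsg.Agent.Small.PSpn Cfsg.Agent.SpBound Cfsg.Agent.Weil

universe u

variable {F : Type u} [Field F] [Fintype F] [DecidableEq F] {n : ℕ} [NeZero n]

local notation "Gm" => Matrix.symplecticGroup (Fin n) F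
local notation "T" => Fin n → F

variable {ψ : AddChar F ℂ} (h2 : (2 : F) ≠ 0) (hψ : ψ ≠ 0)

/-- Every invariant subspace is trivial. -/
def Minimal {V : Type*} [AddCommGroup V] [Module ℂ V] (ρ : Representation ℂ Gm V) : Prop :=
  ∀ M : Submodule ℂ V, (∀ g, ∀ y ∈ M, ρ g y ∈ M) → M ≠ ⊥ → M = ⊤

theorem minimal_wh {ε : ℂ} (hε : ε * ε = 1) : Minimal (wh (n := n) hε h2 hψ) :=
  fun M hM hM0 => wh_irr h2 hψ hε M hM hM0

theorem minimal_of_irr {V : Type*} [AddCommGroup V] [Module ℂ V] (ρ : Representation ℂ Gm V)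
    (h : ρ.IsIrreducible) : Minimal ρ := by
  intro M hM hM0
  rcases h.eq_bot_or_eq_top ⟨M, fun g y hy => hM g y hy⟩ with e | e
  · exact absurd (congrArg Subrepresentation.toSubmodule e) hM0
  · exact congrArg Subrepresentation.toSubmodule e

theorem char_wh_irr {ε : ℂ} (hε : ε * ε = 1) : IsIrrCharacter Gm (wh (n := n) hε h2 hψ).character := by
  classical
  haveI : Fintype Gm := Fintype.ofFinite _
  refine Char.isIrr_of_norm_one (Char.isCharacter_character _) ?_
  · set δ : T := Pi.single 0 1 with hδ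
    have hδ0 : δ ≠ 0 := by simp [hδ]
    haveI : Nontrivial (half (F := F) (n := n) ε) := ⟨⟨_, _, ev_ne_zero h2 hε hδ0⟩⟩
    haveI : Nontrivial (Subrepresentation (wh (n := n) hε h2 hψ)) :=
      ⟨⟨⊥, ⊤, fun hbt => bot_ne_top (α := Submodule ℂ _) (congrArg Subrepresentation.toSubmodule hbt)⟩⟩
    haveI : (wh (n := n) hε h2 hψ).IsIrreducible := ⟨fun S => by
      by_cases h : S.toSubmodule = ⊥
      · exact Or.inl (Subrepresentation.toSubmodule_injective h)
      · exact Or.inr (Subrepresentation.toSubmodule_injective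
          (wh_irr h2 hψ hε S.toSubmodule (fun g y hy => S.apply_mem_toSubmodule g hy) h))⟩
    rw [Char.classInner_rep, Representation.IsIrreducible.finrank_intertwiningMap_self, Nat.cast_one]

theorem char_wh_one {ε : ℂ} (hε : ε * ε = 1) :
    (wh (n := n) hε h2 hψ).character 1 = ((Fintype.card F : ℂ) ^ n + ε) / 2 := by
  rw [Representation.char_one, finrank_half h2 hε]

/-- Two halves for different square classes differ. -/
theorem char_wh_ne {ν : F} (hν : ¬ IsSquare ν) (hψ' : ψ.mulShift ν ≠ 0) {ε : ℂ} (hε : ε * ε = 1) :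
    (wh (n := n) hε h2 hψ').character ≠ (wh (n := n) hε h2 hψ).character := by
  classical
  intro h
  haveI : Fintype Gm := Fintype.ofFinite _
  set δ : T := Pi.single 0 1 with hδ
  have hδ0 : δ ≠ 0 := by simp [hδ]
  have hzero : classInner (wh (n := n) hε h2 hψ).character (wh (n := n) hε h2 hψ').character = 0 := by
    rw [Char.classInner_rep, Nat.cast_eq_zero]
    haveI : Subsingleton (Representation.IntertwiningMap (wh (n := n) hε h2 hψ') (wh (n := n) hε h2 hψ)) := by
      refine subsingleton_of_forall_eq 0 fun g => Representation.IntertwiningMap.ext ?_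
      refine hom_eq_zero h2 hψ' hε _ g.toLinearMap
        (fun a y => Representation.IntertwiningMap.isIntertwining _ _ g a y) hδ0 ?_
      by_contra h0
      obtain ⟨s, hs, -⟩ := eig_half h2 hψ hε (eig_of_hom _ _ g.toLinearMap
        (fun a y => Representation.IntertwiningMap.isIntertwining _ _ g a y) (wh_lS h2 hψ' hε δ)) h0
      have h1 := (kap_eq_iff h2 hψ (r := ν) (fun x => AddChar.mulShift_apply) δ s).1 hs 0 0
      exact hν ⟨s 0, by simpa [hδ] using h1⟩
    exact Module.finrank_zero_of_subsingleton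
  rw [h, Char.irr_self (char_wh_irr h2 hψ hε)] at hzero
  exact one_ne_zero hzero

include h2 hψ in
/-- A small irreducible representation is a half of a Weil representation. -/
theorem small_irr (hn : 2 ≤ n) (hodd : Odd (Fintype.card F)) {ν : F} (hν : ¬ IsSquare ν)
    (hψ' : ψ.mulShift ν ≠ 0) {V : Type u} [AddCommGroup V] [Module ℂ V] [FiniteDimensional ℂ V]
    (ρ : Representation ℂ Gm V) (hmin : Minimal ρ)
    (hdim : Module.finrank ℂ V * (2 * (Fintype.card F + 1)) <
      (Fintype.card F ^ n - 1) * (Fintype.card F ^ n - Fintype.card F))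
    (h1 : Module.finrank ℂ V ≠ 1) (h0 : Module.finrank ℂ V ≠ 0) :
    ∃ (ε : ℂ) (hε : ε * ε = 1),
      ρ.character = (wh (n := n) hε h2 hψ).character ∨ ρ.character = (wh (n := n) hε h2 hψ').character := by
  classical
  have hr := rankOne_of_small ρ hodd hdim
  haveI : Nontrivial V := Module.nontrivial_of_finrank_pos (Nat.pos_of_ne_zero h0)
  obtain ⟨φ, x, hx, hx0, hφ⟩ : ∃ φ, ∃ x : V, Eig ρ φ x ∧ x ≠ 0 ∧ φ ≠ 1 := by
    by_contra! hno
    have htriv : ∀ S : symH F n, ρ (lS S) = 1 := by
      have hle : (⊤ : Submodule ℂ V) ≤ eigS ρ 1 := le_of_eig ρ (fun _ _ _ => Submodule.mem_top) fun φ y _ hy => by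
        by_cases hy0 : y = 0
        · rw [hy0]; exact Submodule.zero_mem _
        · rw [← hno φ y hy hy0]; exact hy
      intro S
      refine LinearMap.ext fun y => ?_
      rw [hle (Submodule.mem_top (x := y)) S, AddChar.one_apply, one_smul, Module.End.one_apply]
    obtain ⟨y, hy⟩ := exists_ne (0 : V)
    refine h1 ?_
    rw [← finrank_top ℂ V, ← hmin (Submodule.span ℂ {y}) (fun g v hv => by
      rw [rep_trivial ρ htriv g, Module.End.one_apply]; exact hv) (by simpa using hy)]
    exact finrank_span_singleton hy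
  obtain ⟨χ, hχ, t, rfl⟩ := hr φ x hx0 hx
  have ht : t ≠ 0 := fun h => hφ (by rw [h, kap_zero])
  obtain ⟨z, hzz, hz⟩ : ∃ z : ℂ, z * z = 1 ∧ ρ negOne = z • 1 := by
    set M := LinearMap.ker (ρ (negOne : Gm) - 1) with hM
    have hMinv : ∀ g, ∀ y ∈ M, ρ g y ∈ M := fun g y hy => by
      simp only [hM, LinearMap.mem_ker, LinearMap.sub_apply, Module.End.one_apply, sub_eq_zero] at hy ⊢
      rw [← Module.End.mul_apply, ← map_mul, negOne_comm, map_mul, Module.End.mul_apply, hy]
    have hsq : ∀ y : V, ρ (negOne : Gm) (ρ (negOne : Gm) y) = y := fun y => by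
      rw [← Module.End.mul_apply, ← map_mul, show (negOne : Gm) * negOne = 1 from eq_of_act fun v => by
        rw [act_mul, act_negOne, act_negOne, act_one, neg_neg], map_one, Module.End.one_apply]
    by_cases hM0 : M = ⊥
    · refine ⟨-1, by norm_num, LinearMap.ext fun y => ?_⟩
      have : y + ρ (negOne : Gm) y ∈ M := by
        simp only [hM, LinearMap.mem_ker, LinearMap.sub_apply, Module.End.one_apply, map_add, hsq]
        abel
      rw [hM0, Submodule.mem_bot] at this
      rw [LinearMap.smul_apply, Module.End.one_apply, neg_one_smul]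
      exact eq_neg_of_add_eq_zero_right this
    · refine ⟨1, one_mul 1, LinearMap.ext fun y => ?_⟩
      have : y ∈ M := hmin M hMinv hM0 ▸ Submodule.mem_top
      simp only [hM, LinearMap.mem_ker, LinearMap.sub_apply, Module.End.one_apply, sub_eq_zero] at this
      rw [this, LinearMap.smul_apply, Module.End.one_apply, one_smul]
  have finish : ∀ {χ : AddChar F ℂ} (hχ : χ ≠ 0) {s : T}, s ≠ 0 → Eig ρ (kap χ s) x →
      ∃ (ε : ℂ) (hε : ε * ε = 1), ρ.character = (wh (n := n) hε h2 hχ).character := by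
    intro χ hχ s hs hxs
    have hε : zc n h2 hχ * z * (zc n h2 hχ * z) = 1 := by
      linear_combination z * z * zc_sq (n := n) h2 hχ + hzz
    obtain ⟨f, hf, hfx⟩ := up1_all h2 hχ hn V ρ hr _ hε s hs x hxs (by
      rw [hz, LinearMap.smul_apply, Module.End.one_apply, ← mul_assoc, zc_sq, one_mul])
    have hf0 : f ≠ 0 := fun h => hx0 (by rw [← hfx, h, LinearMap.zero_apply])
    have hker : LinearMap.ker f = ⊥ := by
      by_contra h
      exact hf0 (LinearMap.ker_eq_top.1 (wh_irr h2 hχ hε (LinearMap.ker f) (fun g y hy => by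
        rw [LinearMap.mem_ker] at hy ⊢
        rw [hf g y, hy, map_zero]) h))
    have hrange : LinearMap.range f = ⊤ := hmin _ (fun g y hy => by
      obtain ⟨y', rfl⟩ := hy
      exact ⟨_, hf g y'⟩) (fun h => hf0 (LinearMap.range_eq_bot.1 h))
    let E := LinearEquiv.ofBijective f ⟨LinearMap.ker_eq_bot.1 hker, LinearMap.range_eq_top.1 hrange⟩
    refine ⟨_, hε, funext fun g => ?_⟩
    rw [Representation.character, Representation.character, ← LinearMap.trace_conj' (wh (n := n) hε h2 hχ g) E]
    congr 1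
    refine LinearMap.ext fun y => ?_
    obtain ⟨y', rfl⟩ := E.surjective y
    simp only [LinearEquiv.conj_apply, LinearMap.comp_apply, LinearEquiv.coe_coe, LinearEquiv.symm_apply_apply]
    exact (hf g y').symm
  obtain ⟨r, hr'⟩ := exists_mulShift hψ χ
  have hr0 : r ≠ 0 := fun h => hχ (DFunLike.ext _ _ fun y => by
    rw [hr', h, zero_mul, AddChar.map_zero_eq_one, AddChar.zero_apply])
  by_cases hsq : IsSquare r
  · obtain ⟨α, rfl⟩ := hsq
    have hα : α ≠ 0 := fun h => hr0 (by rw [h, mul_zero])
    have e : kap χ t = kap ψ (α • t) := (kap_eq_iff h2 hψ hr' _ _).2 fun i j => by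
      simp only [Pi.smul_apply, smul_eq_mul]; ring
    rw [e] at hx
    obtain ⟨ε, hε, h⟩ := finish hψ (smul_ne_zero hα ht) hx
    exact ⟨ε, hε, Or.inl h⟩
  · obtain ⟨α, hα⟩ : IsSquare (r / ν) := by
      rcases eq_or_ne (quadraticChar F (r / ν)) 1 with h | h
      · exact (quadraticChar_one_iff_isSquare (div_ne_zero hr0 (fun e => hν ⟨0, by rw [e, mul_zero]⟩))).1 h
      · exfalso
        have hν0 : ν ≠ 0 := fun e => hν (e ▸ ⟨0, (mul_zero 0).symm⟩)
        have hc : ringChar F ≠ 2 := fun hc => h2 (by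
          have := ringChar.of_eq hc
          exact CharTwo.two_eq_zero)
        have e1 := (quadraticChar_neg_one_iff_not_isSquare (a := r)).2 hsq
        have e2 := (quadraticChar_neg_one_iff_not_isSquare (a := ν)).2 hν
        have e3 : quadraticChar F (r / ν) * quadraticChar F ν = quadraticChar F r := by
          rw [← map_mul, div_mul_cancel₀ _ hν0]
        rw [e1, e2] at e3
        exact h (by linarith)
    have hα0 : α ≠ 0 := fun h => by
      rw [h, mul_zero, div_eq_zero_iff] at hα
      exact hν ⟨0, by rw [hα.resolve_left hr0, mul_zero]⟩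
    have hν0 : ν ≠ 0 := fun e => hν (e ▸ ⟨0, (mul_zero 0).symm⟩)
    have hs' : ∀ y, χ y = (ψ.mulShift ν) (α * α * y) := fun y => by
      rw [AddChar.mulShift_apply, hr']
      congr 1
      rw [← hα]
      field_simp
    have e : kap χ t = kap (ψ.mulShift ν) (α • t) := (kap_eq_iff h2 hψ' hs' _ _).2 fun i j => by
      simp only [Pi.smul_apply, smul_eq_mul]; ring
    rw [e] at hx
    obtain ⟨ε, hε, h⟩ := finish hψ' (smul_ne_zero hα0 ht) hx
    exact ⟨ε, hε, Or.inr h⟩

end Cfsg.Agent.WeilOne
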