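import Cfsg.Agent.Lib.Lie.WeilRankOne.Half

/-!
# Two commuting symplectic groups inside a symplectic group
-/

set_option autoImplicit false
set_option linter.unusedSectionVars false

namespace Cfsg.Agent.WeilOne

open Matrix Cfsg.Agent.Small.PSpn Cfsg.Agent.SpBound Cfsg.Agent.Weil

variable {F : Type*} [Field F] [Fintype F] [DecidableEq F] {a b n : ℕ} (e : Fin a ⊕ Fin b ≃ Fin n)

local notation "Ga" => Matrix.symplecticGroup (Fin a) F
local notation "Gb" => Matrix.symplecticGroup (Fin b) F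
local notation "Gn" => Matrix.symplecticGroup (Fin n) F
local notation "Ta" => Fin a → F
local notation "Tb" => Fin b → F
local notation "Tn" => Fin n → F

/-- Joining vectors. -/
def jn (u : Ta) (w : Tb) : Tn := Sum.elim u w ∘ e.symm

/-- First part. -/
def p1 (t : Tn) : Ta := fun i => t (e (.inl i))

/-- Second part. -/
def p2 (t : Tn) : Tb := fun i => t (e (.inr i))

theorem p1_jn (u : Ta) (w : Tb) : p1 e (jn e u w) = u := funext fun i => by simp [p1, jn]

theorem p2_jn (u : Ta) (w : Tb) : p2 e (jn e u w) = w := funext fun i => by simp [p2, jn]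

theorem jn_p (t : Tn) : jn e (p1 e t) (p2 e t) = t := funext fun k => by
  obtain ⟨k, rfl⟩ := e.surjective k
  rcases k with i | i <;> simp [p1, p2, jn]

theorem jn_inj {u u' : Ta} {w w' : Tb} (h : jn e u w = jn e u' w') : u = u' ∧ w = w' :=
  ⟨by rw [← p1_jn e u w, h, p1_jn], by rw [← p2_jn e u w, h, p2_jn]⟩

theorem jn_add (u u' : Ta) (w w' : Tb) : jn e (u + u') (w + w') = jn e u w + jn e u' w' := funext fun k => by
  obtain ⟨k, rfl⟩ := e.surjective k
  rcases k with i | i <;> simp [jn]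

theorem jn_neg (u : Ta) (w : Tb) : jn e (-u) (-w) = -jn e u w := funext fun k => by
  obtain ⟨k, rfl⟩ := e.surjective k
  rcases k with i | i <;> simp [jn]

theorem jn_zero : jn e (0 : Ta) (0 : Tb) = 0 := funext fun k => by
  obtain ⟨k, rfl⟩ := e.surjective k
  rcases k with i | i <;> simp [jn]

theorem p1_add (t t' : Tn) : p1 e (t + t') = p1 e t + p1 e t' := rfl

theorem p2_add (t t' : Tn) : p2 e (t + t') = p2 e t + p2 e t' := rfl

theorem jn_dot (u u' : Ta) (w w' : Tb) : jn e u w ⬝ᵥ jn e u' w' = u ⬝ᵥ u' + w ⬝ᵥ w' := by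
  simp only [dotProduct, jn, Function.comp_apply]
  rw [← Equiv.sum_comp e]
  simp [Fintype.sum_sum_type]

/-- The vectors as pairs. -/
def jnEquiv : Ta × Tb ≃ Tn where
  toFun p := jn e p.1 p.2
  invFun t := (p1 e t, p2 e t)
  left_inv p := by simp only [p1_jn, p2_jn]
  right_inv t := jn_p e t

theorem sum_jn {M : Type*} [AddCommMonoid M] (f : Tn → M) : ∑ t, f t = ∑ u : Ta, ∑ w : Tb, f (jn e u w) := by
  rw [← (jnEquiv e).sum_comp, Fintype.sum_prod_type]
  rfl

/-- The index map. -/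
def sig : (Fin a ⊕ Fin a) ⊕ (Fin b ⊕ Fin b) ≃ Fin n ⊕ Fin n :=
  (Equiv.sumSumSumComm _ _ _ _).trans (e.sumCongr e)

theorem J_eq : Matrix.J (Fin n) F =
    Matrix.reindex (sig e) (sig e) (Matrix.fromBlocks (Matrix.J (Fin a) F) 0 0 (Matrix.J (Fin b) F)) := by
  ext x y
  obtain ⟨x, rfl⟩ := (sig e).surjective x
  obtain ⟨y, rfl⟩ := (sig e).surjective y
  rw [Matrix.reindex_apply, Matrix.submatrix_apply, Equiv.symm_apply_apply, Equiv.symm_apply_apply]
  rcases x with (i | i) | (i | i) <;> rcases y with (j | j) | (j | j) <;>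
    simp [sig, Matrix.J, Matrix.one_apply]

/-- The block matrix of a pair. -/
def embM (g : Matrix (Fin a ⊕ Fin a) (Fin a ⊕ Fin a) F) (h : Matrix (Fin b ⊕ Fin b) (Fin b ⊕ Fin b) F) :
    Matrix (Fin n ⊕ Fin n) (Fin n ⊕ Fin n) F :=
  Matrix.reindex (sig e) (sig e) (Matrix.fromBlocks g 0 0 h)

theorem embM_mul (g g' : Matrix (Fin a ⊕ Fin a) (Fin a ⊕ Fin a) F)
    (h h' : Matrix (Fin b ⊕ Fin b) (Fin b ⊕ Fin b) F) :
    embM e (g * g') (h * h') = embM e g h * embM e g' h' := by
  simp [embM, Matrix.reindex_apply, Matrix.submatrix_mul_equiv, Matrix.fromBlocks_multiply]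

theorem embM_mem (g : Ga) (h : Gb) : embM e g.1 h.1 ∈ Gn := by
  rw [SymplecticGroup.mem_iff, J_eq e]
  have hg := SymplecticGroup.mem_iff.1 g.2
  have hh := SymplecticGroup.mem_iff.1 h.2
  simp [embM, Matrix.reindex_apply, Matrix.transpose_submatrix, Matrix.submatrix_mul_equiv,
    Matrix.fromBlocks_multiply, Matrix.fromBlocks_transpose, hg, hh]

/-- The embedding of a pair. -/
def emb : Ga × Gb →* Gn where
  toFun p := ⟨embM e p.1.1 p.2.1, embM_mem e p.1 p.2⟩
  map_one' := Subtype.ext (by simp [embM, Matrix.fromBlocks_one])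
  map_mul' p q := Subtype.ext (embM_mul e p.1.1 q.1.1 p.2.1 q.2.1)

/-- Joining long vectors. -/
def glue (u : Fin a ⊕ Fin a → F) (w : Fin b ⊕ Fin b → F) : Fin n ⊕ Fin n → F := Sum.elim u w ∘ (sig e).symm

theorem la_glue (u : Fin a ⊕ Fin a → F) (w : Fin b ⊕ Fin b → F) : la (glue e u w) = jn e (la u) (la w) :=
  funext fun k => by
    obtain ⟨k, rfl⟩ := e.surjective k
    rcases k with i | i <;> simp [la, glue, sig, jn]

theorem lb_glue (u : Fin a ⊕ Fin a → F) (w : Fin b ⊕ Fin b → F) : lb (glue e u w) = jn e (lb u) (lb w) :=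
  funext fun k => by
    obtain ⟨k, rfl⟩ := e.surjective k
    rcases k with i | i <;> simp [lb, glue, sig, jn]

theorem act_emb (p : Ga × Gb) (u : Fin a ⊕ Fin a → F) (w : Fin b ⊕ Fin b → F) :
    act (emb e p) (glue e u w) = glue e (act p.1 u) (act p.2 w) := by
  show embM e p.1.1 p.2.1 *ᵥ glue e u w = _
  rw [embM, glue, Matrix.reindex_apply, Matrix.submatrix_mulVec_equiv, Equiv.symm_symm, Function.comp_assoc,
    Equiv.symm_comp_self, Function.comp_id, Matrix.fromBlocks_mulVec]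
  simp [glue, act, Function.comp_def]

theorem glue_surj (v : Fin n ⊕ Fin n → F) : ∃ u w, v = glue e u w :=
  ⟨fun i => v (sig e (.inl i)), fun i => v (sig e (.inr i)), funext fun k => by
    obtain ⟨k, rfl⟩ := (sig e).surjective k
    rcases k with i | i <;> simp [glue]⟩

/-- Block diagonal symmetric matrices. -/
def bd (S : symH F a) (S' : symH F b) : symH F n :=
  ⟨Matrix.reindex e e (Matrix.fromBlocks (S : Matrix (Fin a) (Fin a) F) 0 0 (S' : Matrix (Fin b) (Fin b) F)), by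
    rw [mem_sym, Matrix.transpose_reindex, Matrix.fromBlocks_transpose,
      show (S : Matrix (Fin a) (Fin a) F)ᵀ = S from S.2, show (S' : Matrix (Fin b) (Fin b) F)ᵀ = S' from S'.2,
      Matrix.transpose_zero, Matrix.transpose_zero]⟩

theorem emb_lS (S : symH F a) (S' : symH F b) : emb e (lS S, lS S') = lS (bd e S S') := by
  apply Subtype.ext
  show embM e (lS S).1 (lS S').1 = Matrix.fromBlocks 1 0 (bd e S S' : Matrix (Fin n) (Fin n) F) 1
  ext x y
  obtain ⟨x, rfl⟩ := (sig e).surjective x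
  obtain ⟨y, rfl⟩ := (sig e).surjective y
  rw [embM, Matrix.reindex_apply, Matrix.submatrix_apply, Equiv.symm_apply_apply, Equiv.symm_apply_apply]
  rcases x with (i | i) | (i | i) <;> rcases y with (j | j) | (j | j) <;>
    simp [sig, bd, lS, Matrix.one_apply]

theorem bd_mulVec (S : symH F a) (S' : symH F b) (u : Ta) (w : Tb) :
    (bd e S S' : Matrix (Fin n) (Fin n) F) *ᵥ jn e u w =
      jn e ((S : Matrix (Fin a) (Fin a) F) *ᵥ u) ((S' : Matrix (Fin b) (Fin b) F) *ᵥ w) := by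
  show Matrix.reindex e e (Matrix.fromBlocks (S : Matrix (Fin a) (Fin a) F) 0 0 (S' : Matrix (Fin b) (Fin b) F)) *ᵥ
    jn e u w = _
  rw [jn, Matrix.reindex_apply, Matrix.submatrix_mulVec_equiv, Equiv.symm_symm, Function.comp_assoc,
    Equiv.symm_comp_self, Function.comp_id, Matrix.fromBlocks_mulVec]
  simp [jn, Function.comp_def]

theorem kap_bd (ψ : AddChar F ℂ) (t : Tn) (S : symH F a) (S' : symH F b) :
    kap ψ t (bd e S S') = kap ψ (p1 e t) S * kap ψ (p2 e t) S' := by
  rw [kap_apply, kap_apply, kap_apply]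
  conv_lhs => rw [← jn_p e t, bd_mulVec, jn_dot]
  rw [← AddChar.map_add_eq_mul]
  congr 1
  ring

/-- The block diagonal invertible matrix. -/
def bdU (A : (Matrix (Fin a) (Fin a) F)ˣ) (A' : (Matrix (Fin b) (Fin b) F)ˣ) : (Matrix (Fin n) (Fin n) F)ˣ where
  val := Matrix.reindex e e (Matrix.fromBlocks A.1 0 0 A'.1)
  inv := Matrix.reindex e e (Matrix.fromBlocks A.inv 0 0 A'.inv)
  val_inv := by
    simp [Matrix.reindex_apply, Matrix.submatrix_mul_equiv, Matrix.fromBlocks_multiply, Matrix.fromBlocks_one,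
      A.val_inv, A'.val_inv]
  inv_val := by
    simp [Matrix.reindex_apply, Matrix.submatrix_mul_equiv, Matrix.fromBlocks_multiply, Matrix.fromBlocks_one,
      A.inv_val, A'.inv_val]

theorem emb_dElt (A : (Matrix (Fin a) (Fin a) F)ˣ) (A' : (Matrix (Fin b) (Fin b) F)ˣ) :
    emb e (dElt A, dElt A') = dElt (bdU e A A') := by
  apply Subtype.ext
  show embM e (dElt A).1 (dElt A').1 = Matrix.fromBlocks (bdU e A A').1 0 0 ((bdU e A A')⁻¹).1ᵀ
  ext x y
  obtain ⟨x, rfl⟩ := (sig e).surjective x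
  obtain ⟨y, rfl⟩ := (sig e).surjective y
  rw [embM, Matrix.reindex_apply, Matrix.submatrix_apply, Equiv.symm_apply_apply, Equiv.symm_apply_apply]
  rcases x with (i | i) | (i | i) <;> rcases y with (j | j) | (j | j) <;>
    simp [sig, bdU, dElt]

theorem bdU_mulVec (A : (Matrix (Fin a) (Fin a) F)ˣ) (A' : (Matrix (Fin b) (Fin b) F)ˣ) (u : Ta) (w : Tb) :
    (bdU e A A' : Matrix (Fin n) (Fin n) F) *ᵥ jn e u w = jn e (A.1 *ᵥ u) (A'.1 *ᵥ w) := by
  show Matrix.reindex e e (Matrix.fromBlocks A.1 0 0 A'.1) *ᵥ jn e u w = _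
  rw [jn, Matrix.reindex_apply, Matrix.submatrix_mulVec_equiv, Equiv.symm_symm, Function.comp_assoc,
    Equiv.symm_comp_self, Function.comp_id, Matrix.fromBlocks_mulVec]
  simp [jn, Function.comp_def]

theorem emb_negOne : emb e ((negOne : Ga), (negOne : Gb)) = negOne := by
  refine eq_of_act fun v => ?_
  obtain ⟨u, w, rfl⟩ := glue_surj e v
  rw [act_emb, act_negOne, act_negOne, act_negOne]
  funext k
  obtain ⟨k, rfl⟩ := (sig e).surjective k
  rcases k with i | i <;> simp [glue]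

theorem emb_Jn : emb e ((Jn : Ga), (Jn : Gb)) = Jn := Subtype.ext (J_eq e).symm

/-- The subgroup generated by pairs and lower unitriangular elements is everything. -/
theorem eq_top_of_emb [NeZero n] (E : Subgroup Gn) (hl : ∀ S : symH F n, lS S ∈ E) (he : ∀ p, emb e p ∈ E) :
    E = ⊤ := by
  refine eq_top_of_unipotents E hl fun S => ?_
  have hJ : (Jn : Gn) ∈ E := emb_Jn (F := F) e ▸ he _
  have : uElt S = (Jn : Gn)⁻¹ * (lS (-S) * Jn) := by rw [← Jn_mul_uElt, inv_mul_cancel_left]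
  rw [this]
  exact E.mul_mem (E.inv_mem hJ) (E.mul_mem (hl _) hJ)

/-! ### The Weil representation on pairs -/

/-- The product operator. -/
def kr (A : Matrix Ta Ta ℂ) (B : Matrix Tb Tb ℂ) : Matrix Tn Tn ℂ :=
  Matrix.of fun t s => A (p1 e t) (p1 e s) * B (p2 e t) (p2 e s)

theorem kr_mul (A A' : Matrix Ta Ta ℂ) (B B' : Matrix Tb Tb ℂ) :
    kr e (A * A') (B * B') = kr e A B * kr e A' B' := by
  ext t s
  simp only [kr, Matrix.of_apply, Matrix.mul_apply]
  rw [sum_jn e, Finset.sum_mul_sum]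
  simp only [p1_jn, p2_jn]
  exact Finset.sum_congr rfl fun u _ => Finset.sum_congr rfl fun w _ => by ring

theorem kr_one : kr e (1 : Matrix Ta Ta ℂ) (1 : Matrix Tb Tb ℂ) = 1 := by
  ext t s
  simp only [kr, Matrix.of_apply, Matrix.one_apply]
  by_cases h : t = s
  · simp [h]
  · rw [if_neg h]
    by_cases h1 : p1 e t = p1 e s
    · rw [if_neg (fun h3 : p2 e t = p2 e s => h (by rw [← jn_p e t, h1, h3, jn_p])), mul_zero]
    · rw [if_neg h1, zero_mul]

theorem kr_smul (c d : ℂ) (A : Matrix Ta Ta ℂ) (B : Matrix Tb Tb ℂ) :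
    kr e (c • A) (d • B) = (c * d) • kr e A B := by
  ext t s
  simp [kr]
  ring

theorem kr_par : kr e (par F a) (par F b) = par F n := by
  ext t s
  simp only [kr, par, Matrix.of_apply]
  by_cases h : s = -t
  · subst h
    simp [p1, p2, funext_iff]
  · rw [if_neg h]
    by_cases h1 : p1 e s = -p1 e t
    · rw [if_neg (fun h3 : p2 e s = -p2 e t => h (by rw [← jn_p e s, h1, h3, jn_neg, jn_p])), mul_zero]
    · rw [if_neg h1, zero_mul]

variable {ψ : AddChar F ℂ}

theorem kr_W (u : Fin a ⊕ Fin a → F) (w : Fin b ⊕ Fin b → F) :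
    W ψ (glue e u w) = kr e (W ψ u) (W ψ w) := by
  ext t s
  simp only [kr, W, Matrix.of_apply, la_glue, lb_glue]
  by_cases h : s = t + jn e (la u) (la w)
  · subst h
    rw [if_pos rfl, if_pos (by rw [p1_add, p1_jn]), if_pos (by rw [p2_add, p2_jn]), ← AddChar.map_add_eq_mul]
    congr 1
    conv_lhs => rw [← jn_p e t, jn_dot, jn_dot]
    ring
  · rw [if_neg h]
    by_cases h1 : p1 e s = p1 e t + la u
    · rw [if_neg (fun h3 : p2 e s = p2 e t + la w => h (by
        rw [← jn_p e s, h1, h3, jn_add, jn_p])), mul_zero]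
    · rw [if_neg h1, zero_mul]

variable (h2 : (2 : F) ≠ 0) (hψ : ψ ≠ 0)

theorem kr_inter (p : Ga × Gb) : Inter ψ (emb e p) (kr e (wl h2 hψ p.1) (wl h2 hψ p.2)) := by
  intro v
  obtain ⟨u, w, rfl⟩ := glue_surj e v
  rw [act_emb, kr_W, kr_W, ← kr_mul, ← kr_mul, (wl_spec h2 hψ p.1).2.1 u, (wl_spec h2 hψ p.2).2.1 w]

theorem wl_emb [NeZero a] [NeZero b] (p : Ga × Gb) :
    wl h2 hψ (emb e p) = kr e (wl h2 hψ p.1) (wl h2 hψ p.2) := by
  classical
  set R : Ga × Gb → Matrix Tn Tn ℂ := fun p => kr e (wl h2 hψ p.1) (wl h2 hψ p.2) with hR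
  have hRmul : ∀ p q, R (p * q) = R p * R q := fun p q => by
    simp only [hR, Prod.fst_mul, Prod.snd_mul, wl_mul, kr_mul]
  have hR1 : R 1 = 1 := by simp only [hR, Prod.fst_one, Prod.snd_one, wl_one, kr_one]
  have hR0 : ∀ p, R p ≠ 0 := fun p h => by
    have := hRmul p p⁻¹
    rw [mul_inv_cancel, hR1, h, Matrix.zero_mul] at this
    exact one_ne_zero this
  have hex : ∀ p, ∃ c : ℂ, wl h2 hψ (emb e p) = c • R p := fun p =>
    inter_unique h2 hψ (kr_inter e h2 hψ p) (hR0 p) (wl_spec h2 hψ (emb e p)).2.1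
  choose c hc using hex
  have hinj : ∀ p (x y : ℂ), x • R p = y • R p → x = y := fun p x y h => by
    exact smul_left_injective ℂ (hR0 p) h
  have hcmul : ∀ p q, c (p * q) = c p * c q := fun p q => hinj (p * q) _ _ (by
    rw [← hc, map_mul, wl_mul, hc, hc, Matrix.smul_mul, Matrix.mul_smul, smul_smul, hRmul])
  have hc1 : c 1 = 1 := hinj 1 _ _ (by rw [← hc, map_one, wl_one, hR1, one_smul])
  let φ : Ga × Gb →* ℂ := ⟨⟨c, hc1⟩, hcmul⟩
  have hlow : ∀ (S : symH F a) (S' : symH F b), c (lS S, lS S') = 1 := fun S S' => hinj _ _ _ (by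
    rw [← hc, one_smul, emb_lS]
    simp only [hR]
    rw [wl_lS, wl_lS, wl_lS]
    ext t s
    simp only [kr, Matrix.of_apply, Matrix.diagonal_apply]
    by_cases h : t = s
    · subst h; simp [kap_bd e ψ t S S']
    · rw [if_neg h]
      by_cases h1 : p1 e t = p1 e s
      · rw [if_neg (fun h3 : p2 e t = p2 e s => h (by rw [← jn_p e t, h1, h3, jn_p])), mul_zero]
      · rw [if_neg h1, zero_mul])
  have hl1 : ∀ S : symH F a, (φ.toHomUnits.comp (MonoidHom.inl Ga Gb)) (lS S) = 1 := fun S =>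
    Units.ext (by
      show c (lS S, 1) = 1
      have := hlow S 0
      rwa [lS_zero] at this)
  have hl3 : ∀ S : symH F b, (φ.toHomUnits.comp (MonoidHom.inr Ga Gb)) (lS S) = 1 := fun S =>
    Units.ext (by
      show c (1, lS S) = 1
      have := hlow 0 S
      rwa [lS_zero] at this)
  have e1 : c (p.1, 1) = 1 := congrArg Units.val (hom_trivial _ hl1 p.1)
  have e3 : c (1, p.2) = 1 := congrArg Units.val (hom_trivial _ hl3 p.2)
  have : c p = 1 := by
    have h := hcmul (p.1, 1) (1, p.2)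
    rw [show ((p.1, 1) : Ga × Gb) * (1, p.2) = p by simp, e1, e3, one_mul] at h
    exact h
  rw [hc, this, one_smul]

include e in
theorem zc_mul [NeZero a] [NeZero b] : zc n h2 hψ = zc a h2 hψ * zc b h2 hψ := by
  have h := wl_emb e h2 hψ ((negOne : Ga), (negOne : Gb))
  rw [emb_negOne, wl_negOne, wl_negOne, wl_negOne, kr_smul, kr_par] at h
  have := congrFun (congrFun h 0) 0
  simpa [par] using this

end Cfsg.Agent.WeilOne
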