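import Cfsg.Agent.Lib.Lie.WeilRankOne.Classify

/-!
# Small irreducible characters of symplectic groups in odd characteristic
-/

set_option autoImplicit false
set_option linter.unusedSectionVars false
set_option linter.style.haveILetI false

namespace Cfsg.Agent.WeilOne

open Matrix Cfsg Cfsg.Agent.Small.PSpn Cfsg.Agent.SpBound Cfsg.Agent.Weil

universe u

variable {F : Type u} [Field F] [Fintype F] [DecidableEq F] {n : ℕ} [NeZero n]

local notation "Gm" => Matrix.symplecticGroup (Fin n) F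

include n in
theorem bound_gt {q : ℕ} (hq : 3 ≤ q) (hn : 2 ≤ n) :
    (q ^ n + 1) * (q + 1) < (q ^ n - 1) * (q ^ n - q) := by
  obtain ⟨a, ha⟩ : ∃ a, q ^ n = q ^ 2 + a :=
    ⟨q ^ n - q ^ 2, by have := Nat.pow_le_pow_right (show 1 ≤ q by omega) hn; omega⟩
  obtain ⟨p, rfl⟩ := Nat.exists_eq_add_of_le hq
  rw [ha]
  have h1 : (3 + p) ^ 2 + a - 1 = (p * p + 6 * p + 8) + a := by
    rw [show (3 + p) ^ 2 = p * p + 6 * p + 9 by ring]; omega
  have h3 : (3 + p) ^ 2 + a - (3 + p) = (p * p + 5 * p + 6) + a := by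
    rw [show (3 + p) ^ 2 = p * p + 6 * p + 9 by ring]; omega
  rw [h1, h3]
  nlinarith [mul_nonneg (Nat.zero_le a) (Nat.zero_le p), mul_nonneg (Nat.zero_le p) (Nat.zero_le p)]

/-- The counting and gap statement. -/
theorem counts (hn : 2 ≤ n) (hodd : Odd (Fintype.card F)) :
    (∀ ε : ℂ, ε * ε = 1 →
      Nat.card {χ : IrrCharacter Gm // (χ : Gm → ℂ) 1 = ((Fintype.card F : ℂ) ^ n + ε) / 2} = 2) ∧
      ∀ χ : IrrCharacter Gm, ∃ d : ℕ, (χ : Gm → ℂ) 1 = d ∧
        (d * (2 * (Fintype.card F + 1)) < (Fintype.card F ^ n - 1) * (Fintype.card F ^ n - Fintype.card F) →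
          d ≠ 1 → ∃ ε : ℂ, ε * ε = 1 ∧ (χ : Gm → ℂ) 1 = ((Fintype.card F : ℂ) ^ n + ε) / 2) := by
  classical
  have h2 : (2 : F) ≠ 0 := two_ne (hodd := hodd)
  obtain ⟨ψ, hψx⟩ := AddChar.exists_apply_ne_zero.2 (one_ne_zero (α := F))
  have hψ : ψ ≠ 0 := fun h => hψx (by rw [h, AddChar.zero_apply])
  obtain ⟨ν, hν⟩ := FiniteField.exists_nonsquare (F := F) (fun hc => h2 (by
    have := ringChar.of_eq hc
    exact CharTwo.two_eq_zero))
  have hν0 : ν ≠ 0 := fun h => hν (h ▸ ⟨0, (mul_zero 0).symm⟩)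
  have hψ' : ψ.mulShift ν ≠ 0 := AddChar.IsPrimitive.of_ne_one hψ hν0
  have hdeg0 : ∀ χ : IrrCharacter Gm, ∃ d : ℕ, d ≠ 0 ∧ (χ : Gm → ℂ) 1 = d ∧
      (d * (2 * (Fintype.card F + 1)) < (Fintype.card F ^ n - 1) * (Fintype.card F ^ n - Fintype.card F) →
        d ≠ 1 → ∃ (ε : ℂ) (hε : ε * ε = 1), (χ : Gm → ℂ) = (wh (n := n) hε h2 hψ).character ∨
          (χ : Gm → ℂ) = (wh (n := n) hε h2 hψ').character) := by
    intro χ
    obtain ⟨d, ρ, hρ, hχ⟩ := χ.2
    have hd0 : d ≠ 0 := by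
      rintro rfl
      have hb : (⊥ : Subrepresentation ρ) = ⊤ :=
        Subrepresentation.toSubmodule_injective (Subsingleton.elim _ _)
      exact hρ.toNontrivial.exists_pair_ne.elim fun a ⟨b, hab⟩ => hab (by
        rcases hρ.eq_bot_or_eq_top a with ha | ha <;> rcases hρ.eq_bot_or_eq_top b with hb' | hb' <;>
          simp only [ha, hb', hb])
    refine ⟨d, hd0, by rw [← hχ, Representation.char_one, Module.finrank_fin_fun], fun hlt h1 => ?_⟩
    let e : ULift.{u} (Fin d → ℂ) ≃ₗ[ℂ] (Fin d → ℂ) := ULift.moduleEquiv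
    let σ : Representation ℂ Gm (ULift.{u} (Fin d → ℂ)) :=
      { toFun := fun g => e.symm.conj (ρ g)
        map_one' := by rw [map_one]; exact LinearMap.ext fun y => by simp [LinearEquiv.conj_apply]
        map_mul' := fun g g' => by rw [map_mul]; exact LinearMap.ext fun y => by simp [LinearEquiv.conj_apply] }
    have hσ : σ.character = (χ : Gm → ℂ) := by
      rw [← hχ]
      funext g
      exact LinearMap.trace_conj' (ρ g) e.symm
    have hfin : Module.finrank ℂ (ULift.{u} (Fin d → ℂ)) = d := by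
      rw [LinearEquiv.finrank_eq e, Module.finrank_fin_fun]
    have hmin : Minimal σ := by
      intro M hM hM0
      have := minimal_of_irr ρ hρ (M.map e.toLinearMap) (fun g y hy => by
        obtain ⟨y', hy', rfl⟩ := hy
        exact ⟨σ g y', hM g y' hy', by simp [σ, LinearEquiv.conj_apply]⟩)
        (fun h => hM0 ((Submodule.eq_bot_iff _).2 fun y hy => e.injective (by
          rw [map_zero]
          exact (Submodule.mem_bot ℂ).1 (h ▸ Submodule.mem_map_of_mem hy))))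
      refine Submodule.eq_top_iff'.2 fun y => ?_
      obtain ⟨y', hy', he⟩ := (this.ge (Submodule.mem_top (x := e y)) : e y ∈ M.map e.toLinearMap)
      exact e.injective he ▸ hy'
    obtain ⟨ε, hε, h⟩ := small_irr h2 hψ hn hodd hν hψ' σ hmin (by rw [hfin]; exact hlt) (by rw [hfin]; exact h1)
      (by rw [hfin]; exact hd0)
    exact ⟨ε, hε, by rw [← hσ]; exact h⟩
  refine ⟨fun ε hε => ?_, fun χ => ?_⟩
  · let A : {χ : IrrCharacter Gm // (χ : Gm → ℂ) 1 = ((Fintype.card F : ℂ) ^ n + ε) / 2} :=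
      ⟨⟨_, char_wh_irr h2 hψ hε⟩, char_wh_one h2 hψ hε⟩
    let B : {χ : IrrCharacter Gm // (χ : Gm → ℂ) 1 = ((Fintype.card F : ℂ) ^ n + ε) / 2} :=
      ⟨⟨_, char_wh_irr h2 hψ' hε⟩, char_wh_one h2 hψ' hε⟩
    refine Nat.card_eq_two_iff.2 ⟨A, B, fun h => char_wh_ne h2 hψ hν hψ' hε
      (congrArg (fun x : {χ : IrrCharacter Gm // (χ : Gm → ℂ) 1 = ((Fintype.card F : ℂ) ^ n + ε) / 2} =>
        (x.1 : Gm → ℂ)) h).symm, ?_⟩
    refine Set.eq_univ_of_forall fun ⟨χ, hχ⟩ => ?_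
    obtain ⟨d, -, hd, hcl⟩ := hdeg0 χ
    have hq : 3 ≤ Fintype.card F := by
      obtain ⟨m, hm⟩ := hodd
      have := Fintype.one_lt_card (α := F)
      omega
    have he : ε = 1 ∨ ε = -1 := mul_self_eq_one_iff.1 hε
    have hQ : 9 ≤ Fintype.card F ^ n :=
      le_trans (by nlinarith) (Nat.pow_le_pow_right (show 1 ≤ Fintype.card F by omega) hn)
    have hd2 : 2 * d ≤ Fintype.card F ^ n + 1 ∧ Fintype.card F ^ n ≤ 2 * d + 1 := by
      rcases he with rfl | rfl
      · have : ((2 * d : ℕ) : ℂ) = ((Fintype.card F ^ n + 1 : ℕ) : ℂ) := by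
          push_cast
          rw [← hd, hχ]; ring
        have := Nat.cast_injective this
        omega
      · have : ((2 * d + 1 : ℕ) : ℂ) = ((Fintype.card F ^ n : ℕ) : ℂ) := by
          push_cast
          rw [← hd, hχ]; ring
        have := Nat.cast_injective this
        omega
    obtain ⟨ε', hε', h⟩ := hcl (lt_of_le_of_lt (by
      calc d * (2 * (Fintype.card F + 1)) = 2 * d * (Fintype.card F + 1) := by ring
        _ ≤ (Fintype.card F ^ n + 1) * (Fintype.card F + 1) := Nat.mul_le_mul_right _ hd2.1)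
      (bound_gt (n := n) hq hn)) (by omega)
    have hee : ε' = ε := by
      have h1 : (χ : Gm → ℂ) 1 = ((Fintype.card F : ℂ) ^ n + ε') / 2 := by
        rcases h with h | h <;> rw [h, char_wh_one]
      rw [hχ] at h1
      linear_combination -2 * h1
    subst hee
    rcases h with h | h
    · exact Or.inl (Subtype.ext (Subtype.ext h))
    · exact Or.inr (Set.mem_singleton_iff.2 (Subtype.ext (Subtype.ext h)))
  · obtain ⟨d, -, hd, hcl⟩ := hdeg0 χ
    refine ⟨d, hd, fun hlt h1 => ?_⟩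
    obtain ⟨ε, hε, h⟩ := hcl hlt h1
    exact ⟨ε, hε, by rcases h with h | h <;> rw [h, char_wh_one]⟩

end Cfsg.Agent.WeilOne
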