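import Cfsg.Agent.Lib.Lie.WeilRankOne.Lower

/-!
# The two halves of the Weil representation on standard vectors
-/

set_option autoImplicit false
set_option linter.unusedSectionVars false

namespace Cfsg.Agent.WeilOne

open Matrix Cfsg.Agent.Small.PSpn Cfsg.Agent.SpBound Cfsg.Agent.Weil

variable {F : Type*} [Field F] [Fintype F] [DecidableEq F] {n : ℕ}

local notation "T" => Fin n → F
local notation "V2" => Fin n ⊕ Fin n → F
local notation "Gm" => Matrix.symplecticGroup (Fin n) F
local notation "Mn" => Matrix (Fin n) (Fin n) F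
local notation "MT" => Matrix (Fin n → F) (Fin n → F) ℂ

theorem par_mulVec (f : T → ℂ) (r : T) : (par F n *ᵥ f) r = f (-r) := by
  simp [par, Matrix.mulVec, dotProduct]

theorem proj_mulVec (ε : ℂ) (f : T → ℂ) (r : T) :
    (proj (F := F) (n := n) ε *ᵥ f) r = (f r + ε * f (-r)) / 2 := by
  rw [proj, Matrix.smul_mulVec, Matrix.add_mulVec, Matrix.one_mulVec, Matrix.smul_mulVec]
  simp [par_mulVec]
  ring

theorem mem_half_iff {ε : ℂ} (hε : ε * ε = 1) {f : T → ℂ} :
    f ∈ half (F := F) (n := n) ε ↔ ∀ r, f (-r) = ε * f r := by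
  rw [mem_half hε]
  constructor
  · intro h r
    have h1 : (proj (F := F) (n := n) ε *ᵥ f) (-r) = f (-r) := congrFun h (-r)
    have h3 : (proj (F := F) (n := n) ε *ᵥ f) r = f r := congrFun h r
    rw [proj_mulVec, neg_neg] at h1
    rw [proj_mulVec] at h3
    linear_combination -2 * h1
  · intro h
    funext r
    show (proj (F := F) (n := n) ε *ᵥ f) r = f r
    rw [proj_mulVec, h]
    linear_combination f r / 2 * hε

theorem par_half {ε : ℂ} (hε : ε * ε = 1) (f : half (F := F) (n := n) ε) :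
    par F n *ᵥ (f : T → ℂ) = ε • (f : T → ℂ) := by
  funext r
  rw [par_mulVec, Pi.smul_apply, smul_eq_mul]
  exact (mem_half_iff hε).1 f.2 r

theorem res_coe {ε : ℂ} (hε : ε * ε = 1) {A : MT} (hA : par F n * A = A * par F n)
    (f : half (F := F) (n := n) ε) :
    ((res ε A f : half (F := F) (n := n) ε) : T → ℂ) = A *ᵥ (f : T → ℂ) := by
  rw [res_apply]
  funext r
  rw [proj_mulVec, ← par_mulVec (A *ᵥ (f : T → ℂ)), Matrix.mulVec_mulVec, hA, ← Matrix.mulVec_mulVec, par_half hε,
    Matrix.mulVec_smul, Pi.smul_apply, smul_eq_mul]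
  linear_combination (A *ᵥ (f : T → ℂ)) r / 2 * hε

variable {ψ : AddChar F ℂ}

/-- A half of the Weil representation. -/
noncomputable def wh {ε : ℂ} (hε : ε * ε = 1) (h2 : (2 : F) ≠ 0) (hψ : ψ ≠ 0) :
    Representation ℂ Gm (half (F := F) (n := n) ε) where
  toFun g := res ε (wl h2 hψ g)
  map_one' := by rw [wl_one, res_one hε]
  map_mul' g h := by
    rw [wl_mul, res_mul hε ((wl_spec h2 hψ h).2.1.commute_par h2 hψ (wl_spec h2 hψ h).1)]

variable (h2 : (2 : F) ≠ 0) (hψ : ψ ≠ 0)

theorem wh_coe {ε : ℂ} (hε : ε * ε = 1) (g : Gm) (f : half (F := F) (n := n) ε) :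
    ((wh hε h2 hψ g f : half (F := F) (n := n) ε) : T → ℂ) = wl h2 hψ g *ᵥ (f : T → ℂ) :=
  res_coe hε ((wl_spec h2 hψ g).2.1.commute_par h2 hψ (wl_spec h2 hψ g).1) f

/-- The standard vector at a point. -/
noncomputable def ev {ε : ℂ} (hε : ε * ε = 1) (t : T) : half (F := F) (n := n) ε :=
  ⟨Pi.single t 1 + ε • Pi.single (-t) 1, (mem_half_iff hε).2 fun r => by
    simp only [Pi.add_apply, Pi.smul_apply, smul_eq_mul, Pi.single_apply]
    have e1 : (if -r = t then (1 : ℂ) else 0) = if r = -t then 1 else 0 := if_congr neg_eq_iff_eq_neg rfl rfl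
    have e3 : (if -r = -t then (1 : ℂ) else 0) = if r = t then 1 else 0 := if_congr neg_inj rfl rfl
    rw [e1, e3]
    generalize (if r = -t then (1 : ℂ) else 0) = x
    generalize (if r = t then (1 : ℂ) else 0) = y
    linear_combination -x * hε⟩

theorem ev_coe {ε : ℂ} (hε : ε * ε = 1) (t : T) :
    ((ev hε t : half (F := F) (n := n) ε) : T → ℂ) = Pi.single t 1 + ε • Pi.single (-t) 1 := rfl

theorem ev_neg {ε : ℂ} (hε : ε * ε = 1) (t : T) : ev (F := F) hε (-t) = ε • ev hε t := by
  apply Subtype.ext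
  rw [Submodule.coe_smul, ev_coe, ev_coe, neg_neg, smul_add, smul_smul, hε, one_smul, add_comm]

theorem half_eq_sum {ε : ℂ} (hε : ε * ε = 1) (f : half (F := F) (n := n) ε) :
    f = ∑ t : T, ((f : T → ℂ) t / 2) • ev hε t := by
  apply Subtype.ext
  funext r
  rw [Submodule.coe_sum, Finset.sum_apply]
  have e : ∀ t : T, ((((f : T → ℂ) t / 2) • ev hε t : half (F := F) (n := n) ε) : T → ℂ) r =
      (if r = t then (f : T → ℂ) t / 2 else 0) + if -r = t then ε * ((f : T → ℂ) t / 2) else 0 := by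
    intro t
    rw [Submodule.coe_smul, ev_coe]
    simp only [Pi.smul_apply, Pi.add_apply, Pi.single_apply, smul_eq_mul]
    rw [show (if r = -t then (1 : ℂ) else 0) = if -r = t then 1 else 0 from if_congr neg_eq_iff_eq_neg.symm rfl rfl]
    split_ifs <;> ring
  simp only [e, Finset.sum_add_distrib, Finset.sum_ite_eq, Finset.mem_univ, if_true]
  rw [(mem_half_iff hε).1 f.2]
  linear_combination -((f : T → ℂ) r / 2) * hε

theorem span_ev {ε : ℂ} (hε : ε * ε = 1) {M : Submodule ℂ (half (F := F) (n := n) ε)}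
    (h : ∀ t, ev hε t ∈ M) : M = ⊤ := by
  rw [eq_top_iff]
  intro f _
  rw [half_eq_sum hε f]
  exact M.sum_mem fun t _ => M.smul_mem _ (h t)

include h2 in
theorem ev_ne_zero {ε : ℂ} (hε : ε * ε = 1) {t : T} (ht : t ≠ 0) : ev (F := F) hε t ≠ 0 := by
  intro h
  have := congrFun (congrArg Subtype.val h) t
  rw [ev_coe] at this
  simp [Pi.single_apply, (neg_eq_self_iff' h2 t).not.2 ht] at this

theorem ev_zero (hε : (1 : ℂ) * 1 = 1) : ((ev hε (0 : T) : half (F := F) (n := n) 1) : T → ℂ) =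
    (2 : ℂ) • Pi.single 0 1 := by
  rw [ev_coe, neg_zero, one_smul, two_smul]

include h2 in
theorem ev_zero_ne (hε : (1 : ℂ) * 1 = 1) : ev (F := F) hε (0 : T) ≠ 0 := by
  intro h
  have := congrFun (congrArg Subtype.val h) 0
  rw [ev_zero] at this
  simp at this

/-! ### Explicit operators -/

include h2 in
theorem det_res_diag {k : T → ℂ} (hk : ∀ t, k (-t) = k t) (hk0 : k 0 = 1) :
    LinearMap.det (res (F := F) (n := n) 1 (Matrix.diagonal k)) =
      LinearMap.det (res (F := F) (n := n) (-1) (Matrix.diagonal k)) := by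
  classical
  by_cases h2' : (2 : F) = 0
  · exact absurd h2' h2
  set enc : T → ℕ := fun t => (Fintype.equivFin T t).1
  set s : T → ℂ := fun t => if t = 0 then 0 else if enc t < enc (-t) then 1 else -1 with hs
  have henc : ∀ t : T, t ≠ 0 → enc t ≠ enc (-t) := fun t ht h => ht <| (neg_eq_self_iff' h2' t).1
    ((Fintype.equivFin T).injective (Fin.ext h))
  have sneg : ∀ t, s (-t) = - s t := by
    intro t
    by_cases ht : t = 0
    · simp [hs, ht]
    · have := henc t ht
      simp only [hs, neg_eq_zero, ht, if_false, neg_neg]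
      rcases lt_or_gt_of_ne this with h | h
      · rw [if_neg (by omega), if_pos h]
      · rw [if_pos h, if_neg (by omega), neg_neg]
  have ssq : ∀ t : T, t ≠ 0 → s t * s t = 1 := by
    intro t ht
    simp only [hs, ht, if_false]
    split <;> norm_num
  have s0 : s 0 = 0 := by simp [hs]
  have ho : (-1 : ℂ) * -1 = 1 := by norm_num
  let Φ : half (F := F) (n := n) 1 ≃ₗ[ℂ] ℂ × half (F := F) (n := n) (-1) :=
    { toFun := fun f => ((f : T → ℂ) 0, ⟨fun t => s t * (f : T → ℂ) t, (mem_half_iff ho).2 fun r => by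
        rw [sneg, (mem_half_iff (one_mul 1)).1 f.2 r]; ring⟩)
      map_add' := fun f g => Prod.ext rfl (Subtype.ext (funext fun t => by simp [mul_add]))
      map_smul' := fun c f => Prod.ext rfl (Subtype.ext (funext fun t => by simp; ring))
      invFun := fun p => ⟨fun t => s t * (p.2 : T → ℂ) t + if t = 0 then p.1 else 0,
        (mem_half_iff (one_mul 1)).2 fun r => by
          rw [sneg, (mem_half_iff ho).1 p.2.2 r]; simp⟩
      left_inv := fun f => Subtype.ext (funext fun t => by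
        by_cases ht : t = 0
        · subst ht; simp [s0]
        · simp [ht, ← mul_assoc, ssq t ht])
      right_inv := fun p => by
        refine Prod.ext (by simp [s0]) (Subtype.ext (funext fun t => ?_))
        by_cases ht : t = 0
        · subst ht
          have := (mem_half_iff ho).1 p.2.2 0
          rw [neg_zero] at this
          simp [s0]
          linear_combination -this / 2
        · simp [ht, ← mul_assoc, ssq t ht] }
  have hc : ∀ ε : ℂ, ε * ε = 1 → ∀ (f : half (F := F) (n := n) ε) (t : T),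
      ((res ε (Matrix.diagonal k) f : half (F := F) (n := n) ε) : T → ℂ) t = k t * (f : T → ℂ) t := by
    intro ε hε f t
    rw [res_apply, proj_mulVec, Matrix.mulVec_diagonal, Matrix.mulVec_diagonal, hk,
      (mem_half_iff hε).1 f.2 t]
    linear_combination k t * (f : T → ℂ) t / 2 * hε
  have key : (Φ : half (F := F) (n := n) 1 →ₗ[ℂ] _) ∘ₗ res 1 (Matrix.diagonal k) ∘ₗ
      (Φ.symm : ℂ × half (F := F) (n := n) (-1) →ₗ[ℂ] _) =
      (LinearMap.id : ℂ →ₗ[ℂ] ℂ).prodMap (res (-1) (Matrix.diagonal k)) := by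
    refine LinearMap.ext fun p => ?_
    obtain ⟨f, rfl⟩ := Φ.surjective p
    simp only [LinearMap.comp_apply, LinearEquiv.coe_coe, LinearEquiv.symm_apply_apply, LinearMap.prodMap_apply]
    refine Prod.ext ?_ (Subtype.ext (funext fun t => ?_))
    · show ((res 1 (Matrix.diagonal k) f : half (F := F) (n := n) 1) : T → ℂ) 0 = (f : T → ℂ) 0
      rw [hc 1 (one_mul 1), hk0, one_mul]
    · show s t * ((res 1 (Matrix.diagonal k) f : half (F := F) (n := n) 1) : T → ℂ) t = _
      rw [hc 1 (one_mul 1), hc (-1) ho]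
      show _ = k t * (s t * (f : T → ℂ) t)
      ring
  rw [← LinearMap.det_conj (res (F := F) (n := n) 1 (Matrix.diagonal k)) Φ, key, LinearMap.det_prodMap,
    LinearMap.det_id, one_mul]

include h2 in
theorem inter_lS (S : symH F n) : Inter ψ (lS S) (Matrix.diagonal fun t : T => kap ψ t S) := by
  intro v
  ext t r
  simp only [Matrix.diagonal_mul, Matrix.mul_diagonal, W, Matrix.of_apply, la_act_lS, lb_act_lS]
  split_ifs with hr
  · subst hr
    rw [kap_apply, kap_apply, ← AddChar.map_add_eq_mul, ← AddChar.map_add_eq_mul]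
    congr 1
    set a := la v
    set b := lb v
    have hS : ∀ x y : T, x ⬝ᵥ ((S : Mn) *ᵥ y) = y ⬝ᵥ ((S : Mn) *ᵥ x) := by
      intro x y
      rw [Matrix.dotProduct_mulVec, ← Matrix.mulVec_transpose, show (S : Mn)ᵀ = S from S.2, dotProduct_comm]
    simp only [Matrix.mulVec_add, add_dotProduct, dotProduct_add]
    rw [dotProduct_comm ((S : Mn) *ᵥ a) t, hS a t]
    field_simp
    ring
  · simp

theorem wl_lS (S : symH F n) : wl h2 hψ (lS S) = Matrix.diagonal fun t : T => kap ψ t S := by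
  refine good_unique h2 hψ ⟨fun e => ?_, inter_lS h2 S, ?_⟩ (wl_spec h2 hψ _)
  · have := congrFun (congrFun e 0) 0
    simp [kap_zero] at this
  · exact det_res_diag h2 (k := fun t => kap ψ t S) (fun t => by show kap ψ (-t) S = kap ψ t S; rw [kap_neg]) (by simp [kap_zero])

theorem wh_lS {ε : ℂ} (hε : ε * ε = 1) (t : T) : Eig (wh (n := n) hε h2 hψ) (kap ψ t) (ev hε t) := by
  intro S
  apply Subtype.ext
  rw [wh_coe, wl_lS, Submodule.coe_smul]
  funext r
  rw [Matrix.mulVec_diagonal, ev_coe]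
  simp only [Pi.smul_apply, Pi.add_apply, Pi.single_apply, smul_eq_mul]
  by_cases h1 : r = t
  · subst h1; ring
  · by_cases h3 : r = -t
    · subst h3; rw [kap_neg]
    · simp [h1, h3]

/-- The permutation matrix of a linear map. -/
def permM (A : (Mn)ˣ) : MT := Matrix.of fun t s => if t = (A : Mn) *ᵥ s then 1 else 0

theorem permM_single (A : (Mn)ˣ) (s : T) : permM A *ᵥ Pi.single s 1 = Pi.single ((A : Mn) *ᵥ s) 1 := by
  funext r
  rw [Matrix.mulVec_single_one, Matrix.col_apply]
  simp [permM, Pi.single_apply]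

theorem units_mulVec_inj (A : (Mn)ˣ) {x y : T} (h : (A : Mn) *ᵥ x = (A : Mn) *ᵥ y) : x = y := by
  have := congrArg (fun z => ((A⁻¹ : (Mn)ˣ) : Mn) *ᵥ z) h
  simpa [Matrix.mulVec_mulVec] using this

theorem inter_dElt (A : (Mn)ˣ) : Inter ψ (dElt A) (permM A) := by
  intro v
  have hAA : ∀ x : T, (A : Mn) *ᵥ (((A⁻¹ : (Mn)ˣ) : Mn) *ᵥ x) = x := fun x => by
    rw [Matrix.mulVec_mulVec, Units.mul_inv, Matrix.one_mulVec]
  ext t r
  rw [Matrix.mul_apply, Matrix.mul_apply]
  rw [Fintype.sum_eq_single (((A⁻¹ : (Mn)ˣ) : Mn) *ᵥ t) (fun j hj => by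
    have : permM A t j = 0 := by
      simp only [permM, Matrix.of_apply, ite_eq_right_iff, one_ne_zero, imp_false]
      rintro rfl
      exact hj (by rw [Matrix.mulVec_mulVec, Units.inv_mul, Matrix.one_mulVec])
    rw [this, zero_mul])]
  rw [Fintype.sum_eq_single ((A : Mn) *ᵥ r) (fun j hj => by
    have : permM A j r = 0 := by simp [permM, hj]
    rw [this, mul_zero])]
  set t' := ((A⁻¹ : (Mn)ˣ) : Mn) *ᵥ t with ht'
  have h1 : permM A t t' = 1 := by simp [permM, ht', hAA]
  have h3 : permM A ((A : Mn) *ᵥ r) r = 1 := by simp [permM]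
  rw [h1, h3, one_mul, mul_one]
  simp only [W, Matrix.of_apply, la_act_dElt, lb_act_dElt]
  by_cases h : r = t' + la v
  · rw [if_pos h, if_pos (by rw [h, Matrix.mulVec_add, ht', hAA])]
    congr 1
    rw [Matrix.mulVec_transpose, ← Matrix.dotProduct_mulVec, ← ht', dotProduct_comm ((A : Mn) *ᵥ la v),
      ← Matrix.dotProduct_mulVec, Matrix.mulVec_mulVec, Units.inv_mul, Matrix.one_mulVec, dotProduct_comm (lb v) (la v)]
  · rw [if_neg h, if_neg fun e => h ?_]
    refine units_mulVec_inj A ?_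
    rw [e, Matrix.mulVec_add, ht', hAA]

theorem wl_dElt (A : (Mn)ˣ) : ∃ c : ℂ, c ≠ 0 ∧ wl h2 hψ (dElt A) = c • permM A := by
  have h0 : (permM A : MT) ≠ 0 := fun e => by
    have := congrFun (congrFun e ((A : Mn) *ᵥ 0)) 0
    simp [permM] at this
  obtain ⟨c, hc⟩ := inter_unique h2 hψ (inter_dElt A) h0 (wl_spec h2 hψ (dElt A)).2.1
  exact ⟨c, fun e => (wl_spec h2 hψ (dElt A)).1 (by rw [hc, e, zero_smul]), hc⟩

theorem wh_dElt {ε : ℂ} (hε : ε * ε = 1) (A : (Mn)ˣ) :
    ∃ c : ℂ, c ≠ 0 ∧ ∀ t, wh hε h2 hψ (dElt A) (ev hε t) = c • ev hε ((A : Mn) *ᵥ t) := by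
  obtain ⟨c, hc, he⟩ := wl_dElt h2 hψ A
  refine ⟨c, hc, fun t => Subtype.ext ?_⟩
  rw [wh_coe, he, Submodule.coe_smul, ev_coe, ev_coe, Matrix.smul_mulVec, Matrix.mulVec_add, Matrix.mulVec_smul,
    permM_single, permM_single, Matrix.mulVec_neg]

/-- Minus the identity. -/
def negOne : Gm := ⟨-1, by rw [SymplecticGroup.mem_iff]; simp⟩

theorem act_negOne (v : V2) : act (negOne : Gm) v = -v := by
  show (-1 : Matrix (Fin n ⊕ Fin n) (Fin n ⊕ Fin n) F) *ᵥ v = -v
  rw [Matrix.neg_mulVec, Matrix.one_mulVec]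

theorem negOne_comm (g : Gm) : negOne * g = g * (negOne : Gm) := eq_of_act fun x => by
  rw [act_mul, act_mul, act_negOne, act_negOne, act_neg]

theorem inter_par : Inter ψ (negOne : Gm) (par F n) := by
  intro v
  rw [act_negOne, ← par_conj, Matrix.mul_assoc (par F n * W ψ v), par_par, Matrix.mul_one]

theorem exists_zc : ∃ c : ℂ, c * c = 1 ∧ wl h2 hψ (negOne : Gm) = c • par F n := by
  have h0 : (par F n : MT) ≠ 0 := fun e => by
    have := congrFun (congrFun e 0) 0
    simp [par] at this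
  obtain ⟨c, hc⟩ := inter_unique h2 hψ inter_par h0 (wl_spec h2 hψ (negOne : Gm)).2.1
  refine ⟨c, ?_, hc⟩
  have h1 : (negOne : Gm) * negOne = 1 := eq_of_act fun x => by
    rw [act_mul, act_negOne, act_negOne, act_one, neg_neg]
  have := wl_mul h2 hψ (negOne : Gm) negOne
  rw [h1, wl_one, hc, Matrix.smul_mul, Matrix.mul_smul, par_par, smul_smul] at this
  have := congrFun (congrFun this 0) 0
  simpa using this.symm

variable (n) in
/-- The scalar of minus the identity. -/
noncomputable def zc : ℂ := (exists_zc (n := n) h2 hψ).choose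

theorem zc_sq : zc n h2 hψ * zc n h2 hψ = 1 := (exists_zc (n := n) h2 hψ).choose_spec.1

theorem wl_negOne : wl h2 hψ (negOne : Gm) = zc n h2 hψ • par F n := (exists_zc (n := n) h2 hψ).choose_spec.2

theorem wh_negOne {ε : ℂ} (hε : ε * ε = 1) (f : half (F := F) (n := n) ε) :
    wh hε h2 hψ (negOne : Gm) f = (zc n h2 hψ * ε) • f := by
  apply Subtype.ext
  rw [wh_coe, wl_negOne, Matrix.smul_mulVec, par_half hε, smul_smul, Submodule.coe_smul]

/-! ### Transitivity and irreducibility -/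

include h2 in
theorem exists_map [NeZero n] {u w : T} (hu : u ≠ 0) (hw : w ≠ 0) : ∃ A : (Mn)ˣ, (A : Mn) *ᵥ u = w := by
  have hodd : Odd (Fintype.card F) := Nat.odd_iff.2 (FiniteField.odd_card_of_char_ne_two (F := F) fun hc => h2 (by
    have := ringChar.of_eq hc
    exact CharTwo.two_eq_zero))
  obtain ⟨B, hB⟩ := exists_unit_col hodd hu
  obtain ⟨C, hC⟩ := exists_unit_col hodd hw
  refine ⟨C * B⁻¹, ?_⟩
  rw [← hB, Units.val_mul, Matrix.mulVec_mulVec, Matrix.mul_assoc, Units.inv_mul, Matrix.mul_one, hC]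

theorem eig_half {ε : ℂ} (hε : ε * ε = 1) {φ : AddChar (symH F n) ℂ} {f : half (F := F) (n := n) ε}
    (hf : Eig (wh hε h2 hψ) φ f) (hf0 : f ≠ 0) :
    ∃ t, φ = kap ψ t ∧ ∃ c : ℂ, c ≠ 0 ∧ ev hε t = c • f := by
  obtain ⟨r, hr⟩ : ∃ r, (f : T → ℂ) r ≠ 0 := by
    by_contra! h
    exact hf0 (Subtype.ext (funext h))
  have key : ∀ s, (f : T → ℂ) s ≠ 0 → φ = kap ψ s := fun s hs => DFunLike.ext _ _ fun S => by
    have := congrFun (congrArg Subtype.val (hf S)) s
    rw [wh_coe, wl_lS, Matrix.mulVec_diagonal, Submodule.coe_smul, Pi.smul_apply, smul_eq_mul] at this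
    exact (mul_right_cancel₀ hs this).symm
  refine ⟨r, key r hr, ?_⟩
  have hsupp : ∀ s, s ≠ r → s ≠ -r → (f : T → ℂ) s = 0 := fun s h1 h3 => by
    by_contra h
    rcases kap_inj h2 hψ ((key s h).symm.trans (key r hr)) with e | e
    · exact h1 e
    · exact h3 e
  by_cases hr0 : r = 0
  · subst hr0
    have := (mem_half_iff hε).1 f.2 0
    rw [neg_zero] at this
    have he : ε = 1 := mul_right_cancel₀ hr (by rw [one_mul]; exact this.symm)
    subst he
    refine ⟨2 / (f : T → ℂ) 0, div_ne_zero two_ne_zero hr, Subtype.ext (funext fun s => ?_)⟩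
    rw [ev_zero, Submodule.coe_smul, Pi.smul_apply, Pi.smul_apply, smul_eq_mul, smul_eq_mul]
    by_cases hs : s = 0
    · subst hs
      rw [Pi.single_eq_same, div_mul_cancel₀ _ hr, mul_one]
    · rw [Pi.single_eq_of_ne hs, hsupp s hs (by rw [neg_zero]; exact hs), mul_zero, mul_zero]
  · refine ⟨((f : T → ℂ) r)⁻¹, inv_ne_zero hr, Subtype.ext (funext fun s => ?_)⟩
    have hne : r ≠ -r := fun e => hr0 ((neg_eq_self_iff' h2 r).1 e)
    rw [ev_coe, Submodule.coe_smul, Pi.smul_apply, Pi.add_apply, Pi.smul_apply, smul_eq_mul, smul_eq_mul]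
    by_cases h1 : s = r
    · subst h1
      rw [Pi.single_eq_same, Pi.single_eq_of_ne hne, mul_zero, add_zero, inv_mul_cancel₀ hr]
    · by_cases h3 : s = -r
      · subst h3
        rw [Pi.single_eq_same, Pi.single_eq_of_ne hne.symm, (mem_half_iff hε).1 f.2 r]
        field_simp
        ring
      · rw [Pi.single_eq_of_ne h1, Pi.single_eq_of_ne h3, hsupp s h1 h3]
        ring

theorem wh_irr [NeZero n] {ε : ℂ} (hε : ε * ε = 1) (M : Submodule ℂ (half (F := F) (n := n) ε))
    (hM : ∀ g, ∀ f ∈ M, wh hε h2 hψ g f ∈ M) (hM0 : M ≠ ⊥) : M = ⊤ := by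
  obtain ⟨S, hS⟩ : ∃ S : symH F n, (S : Mn) = 1 := ⟨⟨1, Matrix.transpose_one⟩, rfl⟩
  set δ : T := Pi.single 0 1 with hδ
  have hδ0 : δ ≠ 0 := by simp [hδ]
  set A := wl h2 hψ (uElt S) with hA
  obtain ⟨hA0, hAi, -⟩ := wl_spec h2 hψ (uElt S)
  obtain ⟨B, hAB, hBA⟩ := hAi.gram h2 hψ hA0
  set v : V2 := Sum.elim (0 : T) δ
  have hv : la v = 0 ∧ lb v = δ := ⟨rfl, rfl⟩
  have hgv : la (act (uElt S) v) = δ := by rw [la_act_uElt, hv.1, hv.2, hS, Matrix.one_mulVec, zero_add]
  have hW0 : W ψ v *ᵥ Pi.single (0 : T) (1 : ℂ) = Pi.single (0 : T) 1 := by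
    funext s
    rw [Matrix.mulVec_single_one, Matrix.col_apply]
    simp only [W, Matrix.of_apply, hv.1, hv.2, add_zero, zero_dotProduct, mul_zero]
    by_cases hs : s = 0
    · subst hs; simp
    · simp [Pi.single_apply, hs, eq_comm]
  have notline : ¬ ∃ c : ℂ, A *ᵥ Pi.single (0 : T) (1 : ℂ) = c • Pi.single (0 : T) 1 := by
    rintro ⟨c, hc⟩
    have h1 := congrArg (fun M : MT => (M *ᵥ Pi.single (0 : T) (1 : ℂ)) (0 : T)) (hAi v)
    simp only [← Matrix.mulVec_mulVec, hW0] at h1
    rw [show A = wl h2 hψ (uElt S) from rfl] at hc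
    simp only [hc, Matrix.mulVec_smul, Pi.smul_apply, smul_eq_mul] at h1
    rw [Pi.single_eq_same, mul_one, Matrix.mulVec_single_one, Matrix.col_apply] at h1
    simp [W, hgv, hδ0.symm] at h1
    have hz : wl h2 hψ (uElt S) *ᵥ Pi.single (0 : T) (1 : ℂ) = 0 := by rw [hc, h1, zero_smul]
    have := congrArg (fun x => B *ᵥ x) hz
    simp only [Matrix.mulVec_mulVec, Matrix.mulVec_zero] at this
    rw [hBA, Matrix.one_mulVec] at this
    simpa using congrFun this 0
  have notrow : ¬ ∀ s : T, s ≠ 0 → A 0 s = 0 := by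
    intro h
    have h1 : ∀ s, (A * W ψ v) 0 s = A 0 0 * W ψ v 0 s := fun s => by
      rw [Matrix.mul_apply]
      exact Fintype.sum_eq_single 0 fun j hj => by rw [h j hj, zero_mul]
    have h3 : ∀ s, (W ψ (act (uElt S) v) * A) 0 s = W ψ (act (uElt S) v) 0 δ * A δ s := fun s => by
      rw [Matrix.mul_apply]
      refine Fintype.sum_eq_single δ fun j hj => ?_
      simp [W, hgv, hj]
    have hne : W ψ (act (uElt S) v) 0 δ ≠ 0 := by
      simp only [W, Matrix.of_apply, hgv, zero_add, if_true]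
      exact (ψ.val_isUnit _).ne_zero
    have hrow : ∀ s : T, s ≠ 0 → A δ s = 0 := fun s hs => by
      have e := congrFun (congrFun (hAi v) 0) s
      rw [h1, h3] at e
      have : W ψ v 0 s = 0 := by simp [W, hv.1, hs]
      rw [this, mul_zero] at e
      exact (mul_eq_zero.1 e.symm).resolve_left hne
    have e1 : ∀ r, (r = 0 ∨ r = δ) → ∀ s, (1 : MT) r s = A r 0 * B 0 s := fun r hr s => by
      rw [← hAB, Matrix.mul_apply]
      refine Fintype.sum_eq_single 0 fun j hj => ?_
      rcases hr with rfl | rfl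
      · exact mul_eq_zero_of_left (h j hj) _
      · exact mul_eq_zero_of_left (hrow j hj) _
    have a1 := e1 0 (Or.inl rfl) 0
    have a2 := e1 δ (Or.inr rfl) δ
    have a3 := e1 δ (Or.inr rfl) 0
    rw [Matrix.one_apply_eq] at a1 a2
    rw [Matrix.one_apply_ne hδ0] at a3
    rcases mul_eq_zero.1 a3.symm with e | e
    · rw [e, zero_mul] at a2; exact one_ne_zero a2
    · rw [e, mul_zero] at a1; exact one_ne_zero a1
  obtain ⟨f, hf, hf0⟩ := (Submodule.ne_bot_iff M).1 hM0
  have hmem : ∀ φ, ∀ y ∈ M, y ≠ 0 → Eig (wh hε h2 hψ) φ y → ∃ t, φ = kap ψ t ∧ ev hε t ∈ M := by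
    intro φ y hy hy0 he
    obtain ⟨t, h1, c, -, hc⟩ := eig_half h2 hψ hε he hy0
    exact ⟨t, h1, hc ▸ M.smul_mem c hy⟩
  have hnz : ∃ t : T, t ≠ 0 ∧ ev hε t ∈ M := by
    by_contra! hno
    have hle : M ≤ Submodule.span ℂ {ev hε (0 : T)} := le_of_eig _ (fun S y hy => hM _ y hy) fun φ y hy he => by
      by_cases hy0 : y = 0
      · rw [hy0]; exact Submodule.zero_mem _
      obtain ⟨t, h1, c, hc, hc'⟩ := eig_half h2 hψ hε he hy0
      have ht : t = 0 := by
        by_contra ht
        exact hno t ht (hc' ▸ M.smul_mem c hy)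
      rw [← inv_smul_smul₀ hc y, ← hc', ht]
      exact Submodule.smul_mem _ _ (Submodule.mem_span_singleton_self _)
    obtain ⟨a, ha⟩ := Submodule.mem_span_singleton.1 (hle hf)
    obtain ⟨b, hb⟩ := Submodule.mem_span_singleton.1 (hle (hM (uElt S) f hf))
    have hfv : ev hε (0 : T) ≠ 0 := fun e => hf0 (by rw [← ha, e, smul_zero])
    have ha0 : a ≠ 0 := fun e => hf0 (by rw [← ha, e, zero_smul])
    have hε1 : ε = 1 := by
      by_contra h1
      refine hfv (Subtype.ext ?_)
      rw [ev_coe, neg_zero, ZeroMemClass.coe_zero]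
      have : ε = -1 := (mul_self_eq_one_iff.1 hε).resolve_left h1
      rw [this, neg_one_smul, add_neg_cancel]
    subst hε1
    refine notline ⟨b / a, ?_⟩
    rw [← ha, map_smul] at hb
    have := congrArg Subtype.val hb
    rw [Submodule.coe_smul, Submodule.coe_smul, wh_coe, ev_zero, Matrix.mulVec_smul, smul_smul, smul_smul] at this
    funext s
    have := congrFun this s
    simp only [Pi.smul_apply, smul_eq_mul] at this ⊢
    field_simp
    linear_combination -this / 2
  obtain ⟨t, ht, htM⟩ := hnz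
  have hall : ∀ s : T, s ≠ 0 → ev hε s ∈ M := by
    intro s hs
    obtain ⟨g, hg⟩ := exists_map h2 ht hs
    obtain ⟨c, hc, he⟩ := wh_dElt h2 hψ hε g
    have := hM (dElt g) _ htM
    rw [he, hg] at this
    exact (M.smul_mem_iff hc).1 this
  refine span_ev hε fun s => ?_
  by_cases hs : s = 0
  · subst hs
    rcases mul_self_eq_one_iff.1 hε with he | he
    · subst he
      by_contra h0
      refine notrow fun s hs => ?_
      have hz : ∀ f : half (F := F) (n := n) 1, f ∈ M → (f : T → ℂ) 0 = 0 := by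
        intro f hf
        by_contra h
        have hsum := half_eq_sum hε f
        rw [← Finset.add_sum_erase _ _ (Finset.mem_univ (0 : T))] at hsum
        refine h0 ((M.smul_mem_iff (div_ne_zero h (two_ne_zero (α := ℂ)))).1 ?_)
        rw [eq_sub_of_add_eq hsum.symm]
        exact M.sub_mem hf (M.sum_mem fun t ht => M.smul_mem _ (hall t (Finset.ne_of_mem_erase ht)))
      have := hz _ (hM (uElt S) _ (hall s hs))
      rw [wh_coe, ev_coe, one_smul, Matrix.mulVec_add, Pi.add_apply, Matrix.mulVec_single_one,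
        Matrix.mulVec_single_one, Matrix.col_apply, Matrix.col_apply] at this
      have hp := congrFun (congrFun (hAi.commute_par h2 hψ hA0) (0 : T)) s
      rw [Matrix.mul_apply, Matrix.mul_apply, Fintype.sum_eq_single (0 : T) (fun j hj => by simp [par, hj]),
        Fintype.sum_eq_single (-s) (fun j hj => by
          have : par F n j s = 0 := by
            simp only [par, Matrix.of_apply, ite_eq_right_iff, one_ne_zero, imp_false]
            exact fun e => hj (by rw [e, neg_neg])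
          rw [this, mul_zero])] at hp
      simp [par] at hp
      simp only [← hA] at this hp
      linear_combination this / 2 + hp / 2
    · subst he
      have : ev hε (0 : T) = 0 := Subtype.ext (by rw [ev_coe, neg_zero, neg_one_smul, add_neg_cancel]; rfl)
      rw [this]
      exact M.zero_mem
  · exact hall s hs

end Cfsg.Agent.WeilOne
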