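import Mathlib
import Cfsg.Agent.Lib.Lead.WeilRep

/-!
# Lower unitriangular elements and weights
-/

set_option autoImplicit false
set_option linter.unusedSectionVars false

namespace Cfsg.Agent.WeilOne

open Matrix Cfsg.Agent.Small.PSpn Cfsg.Agent.SpBound Cfsg.Agent.Weil

variable {F : Type*} [Field F] [Fintype F] [DecidableEq F] {n : ℕ}

local notation "T" => Fin n → F
local notation "V2" => Fin n ⊕ Fin n → F
local notation "Gm" => Matrix.symplecticGroup (Fin n) F
local notation "Mn" => Matrix (Fin n) (Fin n) F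

theorem mem_sym {S : Mn} : S ∈ symH F n ↔ Sᵀ = S := Iff.rfl

instance decSym : DecidablePred (· ∈ symH F n) := fun S => decidable_of_iff (Sᵀ = S) Iff.rfl

/-- Lower unitriangular elements. -/
def lS (S : symH F n) : Gm :=
  ⟨Matrix.fromBlocks 1 0 (S : Mn) 1, by
    have h : (S : Mn)ᵀ = (S : Mn) := S.2
    rw [SymplecticGroup.mem_iff]
    simp [Matrix.J, Matrix.fromBlocks_transpose, Matrix.fromBlocks_multiply, h]⟩

theorem lS_add (S S' : symH F n) : lS (S + S') = lS S * lS S' := by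
  apply Subtype.ext
  show Matrix.fromBlocks 1 0 ((S : Mn) + (S' : Mn)) 1 =
    Matrix.fromBlocks 1 0 (S : Mn) 1 * Matrix.fromBlocks 1 0 (S' : Mn) 1
  simp [Matrix.fromBlocks_multiply]

theorem lS_zero : lS (0 : symH F n) = 1 := by
  apply Subtype.ext
  show Matrix.fromBlocks 1 0 (0 : Mn) 1 = 1
  simp

theorem lS_comm (S S' : symH F n) : lS S * lS S' = lS S' * lS S := by rw [← lS_add, add_comm, lS_add]

/-- The standard Weyl element. -/
def Jn : Gm := ⟨Matrix.J (Fin n) F, SymplecticGroup.J_mem _ _⟩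

theorem Jn_mul_uElt (S : symH F n) : Jn * uElt S = lS (-S) * Jn := by
  apply Subtype.ext
  show Matrix.J (Fin n) F * Matrix.fromBlocks 1 (S : Mn) 0 1 =
    Matrix.fromBlocks 1 0 (-(S : Mn)) 1 * Matrix.J (Fin n) F
  simp [Matrix.J, Matrix.fromBlocks_multiply]

theorem Jn_mul_lS (S : symH F n) : Jn * lS S = uElt (-S) * Jn := by
  apply Subtype.ext
  show Matrix.J (Fin n) F * Matrix.fromBlocks 1 0 (S : Mn) 1 =
    Matrix.fromBlocks 1 (-(S : Mn)) 0 1 * Matrix.J (Fin n) F
  simp [Matrix.J, Matrix.fromBlocks_multiply]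

/-- The transformation of a symmetric matrix by an invertible one. -/
def congrInv (A : (Mn)ˣ) (S : symH F n) : symH F n :=
  ⟨((A⁻¹ : (Mn)ˣ) : Mn)ᵀ * (S : Mn) * ((A⁻¹ : (Mn)ˣ) : Mn), by
    rw [mem_sym, Matrix.transpose_mul, Matrix.transpose_mul, Matrix.transpose_transpose,
      show (S : Mn)ᵀ = (S : Mn) from S.2, Matrix.mul_assoc]⟩

theorem dElt_mul_lS (A : (Mn)ˣ) (S : symH F n) : dElt A * lS S = lS (congrInv A S) * dElt A := by
  apply Subtype.ext
  show Matrix.fromBlocks (A : Mn) 0 0 ((A⁻¹ : (Mn)ˣ) : Mn)ᵀ * Matrix.fromBlocks 1 0 (S : Mn) 1 =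
    Matrix.fromBlocks 1 0 (((A⁻¹ : (Mn)ˣ) : Mn)ᵀ * (S : Mn) * ((A⁻¹ : (Mn)ˣ) : Mn)) 1 *
      Matrix.fromBlocks (A : Mn) 0 0 ((A⁻¹ : (Mn)ˣ) : Mn)ᵀ
  simp [Matrix.fromBlocks_multiply, Matrix.mul_assoc]

theorem la_act_lS (S : symH F n) (v : V2) : la (act (lS S) v) = la v := by
  funext i
  simp [la, act, lS, Matrix.fromBlocks_mulVec, Function.comp_def]

theorem lb_act_lS (S : symH F n) (v : V2) : lb (act (lS S) v) = (S : Mn) *ᵥ la v + lb v := by
  funext i
  simp [lb, act, lS, Matrix.fromBlocks_mulVec, Function.comp_def]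
  rfl

theorem la_act_uElt (S : symH F n) (v : V2) : la (act (uElt S) v) = la v + (S : Mn) *ᵥ lb v := by
  funext i
  simp [la, act, uElt, Matrix.fromBlocks_mulVec, Function.comp_def]
  rfl

theorem lb_act_uElt (S : symH F n) (v : V2) : lb (act (uElt S) v) = lb v := by
  funext i
  simp [lb, act, uElt, Matrix.fromBlocks_mulVec, Function.comp_def]

theorem la_act_dElt (A : (Mn)ˣ) (v : V2) : la (act (dElt A) v) = (A : Mn) *ᵥ la v := by
  funext i
  simp [la, act, dElt, Matrix.fromBlocks_mulVec, Function.comp_def]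
  rfl

theorem lb_act_dElt (A : (Mn)ˣ) (v : V2) : lb (act (dElt A) v) = ((A⁻¹ : (Mn)ˣ) : Mn)ᵀ *ᵥ lb v := by
  funext i
  simp [lb, act, dElt, Matrix.fromBlocks_mulVec, Function.comp_def]
  rfl

theorem ext_la_lb {u v : V2} (h : la u = la v) (h' : lb u = lb v) : u = v := by
  funext k
  rcases k with i | i
  · exact congrFun h i
  · exact congrFun h' i

/-! ### Generation -/

theorem exists_sym {a : T} (ha : a ≠ 0) (d : T) : ∃ S : symH F n, (S : Mn) *ᵥ a = d := by
  obtain ⟨i, hi⟩ := Function.ne_iff.1 ha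
  set w : T := Pi.single i (a i)⁻¹ with hw
  have hwa : w ⬝ᵥ a = 1 := by rw [hw, single_dotProduct, inv_mul_cancel₀ hi]
  refine ⟨⟨Matrix.vecMulVec d w + Matrix.vecMulVec w d - (d ⬝ᵥ a) • Matrix.vecMulVec w w, ?_⟩, ?_⟩
  · rw [mem_sym, Matrix.transpose_sub, Matrix.transpose_add, Matrix.transpose_smul, Matrix.transpose_vecMulVec,
      Matrix.transpose_vecMulVec, Matrix.transpose_vecMulVec, add_comm]
  · show (Matrix.vecMulVec d w + Matrix.vecMulVec w d - (d ⬝ᵥ a) • Matrix.vecMulVec w w) *ᵥ a = d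
    rw [Matrix.sub_mulVec, Matrix.add_mulVec, Matrix.smul_mulVec, Matrix.vecMulVec_mulVec,
      Matrix.vecMulVec_mulVec, Matrix.vecMulVec_mulVec, hwa]
    funext k
    simp

/-- The unitriangular elements generate the symplectic group. -/
theorem eq_top_of_unipotents [NeZero n] (E : Subgroup Gm) (hl : ∀ S : symH F n, lS S ∈ E)
    (hu : ∀ S : symH F n, uElt S ∈ E) : E = ⊤ := by
  classical
  rw [eq_top_iff, ← Cfsg.Agent.Classical.SpGen.sp_generated, Cfsg.Agent.Classical.SpGen.TG, Subgroup.closure_le]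
  have move : ∀ g ∈ E, ∀ v : V2, (∀ t, eich v 0 t ∈ E) → ∀ t, eich (act g v) 0 t ∈ E := by
    intro g hg v hv t
    have h := eich_conj g (e := v) (z := 0) t (sf_zero_right v)
    rw [act_zero] at h
    rw [← h]
    exact E.mul_mem (E.mul_mem hg (hv t)) (E.inv_mem hg)
  set δ : T := Pi.single 0 1 with hδ
  have hδ0 : δ ≠ 0 := by simp [hδ]
  have base : ∀ t, eich (Sum.elim δ (0 : T)) 0 t ∈ E := by
    intro t
    have hS : (-t) • Matrix.single (0 : Fin n) 0 (1 : F) ∈ symH F n := by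
      rw [mem_sym, Matrix.transpose_smul, Matrix.transpose_single]
    convert hu ⟨_, hS⟩ using 1
    refine eq_of_act fun x => ?_
    rw [act_eich_zero]
    have hse : sf (Sum.elim δ (0 : T)) x = - x (.inr 0) := by
      simp [sf, Cfsg.Agent.Lead.Symp.form_eq, hδ, Pi.single_apply]
    have hse' : sf (Pi.single (Sum.inl 0) 1 : Fin n ⊕ Fin n → F) x = - x (.inr 0) := by
      simp [sf, Cfsg.Agent.Lead.Symp.form_eq, Pi.single_apply]
    refine ext_la_lb ?_ ?_
    · rw [la_act_uElt]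
      funext k
      by_cases hk : k = 0
      · subst hk
        simp [la, lb, hse', hδ, Matrix.mulVec, dotProduct, Matrix.single]
      · simp [la, lb, hδ, Matrix.mulVec, dotProduct, Matrix.single, hk, Ne.symm hk]
    · rw [lb_act_uElt]
      funext k
      simp [lb]
  have r1 : ∀ b : T, ∀ t, eich (Sum.elim δ b) 0 t ∈ E := by
    intro b
    obtain ⟨S, hS⟩ := exists_sym hδ0 b
    have e : Sum.elim δ b = act (lS S) (Sum.elim δ (0 : T)) := by
      refine ext_la_lb ?_ ?_
      · rw [la_act_lS]; rfl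
      · rw [lb_act_lS, show la (Sum.elim δ (0 : T)) = δ from rfl, hS]
        funext k; simp [lb]
    rw [e]
    exact move _ (hl S) _ base
  have r2 : ∀ (a b : T), b ≠ 0 → ∀ t, eich (Sum.elim a b) 0 t ∈ E := by
    intro a b hb
    obtain ⟨S, hS⟩ := exists_sym hb (a - δ)
    have e : Sum.elim a b = act (uElt S) (Sum.elim δ b) := by
      refine ext_la_lb ?_ ?_
      · rw [la_act_uElt, show lb (Sum.elim δ b) = b from rfl, hS]
        funext k; simp [la]
      · rw [lb_act_uElt]; rfl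
    rw [e]
    exact move _ (hu S) _ (r1 b)
  have r3 : ∀ (a b : T), a ≠ 0 → ∀ t, eich (Sum.elim a b) 0 t ∈ E := by
    intro a b ha
    obtain ⟨S, hS⟩ := exists_sym ha (b - δ)
    have e : Sum.elim a b = act (lS S) (Sum.elim a δ) := by
      refine ext_la_lb ?_ ?_
      · rw [la_act_lS]; rfl
      · rw [lb_act_lS, show la (Sum.elim a δ) = a from rfl, hS]
        funext k; simp [lb]
    rw [e]
    exact move _ (hl S) _ (r2 a δ hδ0)
  rintro _ ⟨v, t, rfl⟩
  have hv : v = Sum.elim (la v) (lb v) := ext_la_lb rfl rfl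
  rw [hv]
  by_cases ha : la v = 0
  · by_cases hb : lb v = 0
    · have h0 : eich (Sum.elim (la v) (lb v)) 0 t = (1 : Gm) := by
        refine eq_of_act fun x => ?_
        rw [act_eich_zero, act_one, ha, hb]
        funext k
        rcases k with i | i <;> simp
      rw [h0]
      exact E.one_mem
    · exact r2 _ _ hb t
  · exact r3 _ _ ha t

/-- A homomorphism into a commutative group trivial on lower unitriangular elements is trivial. -/
theorem hom_trivial [NeZero n] {H : Type*} [CommGroup H] (φ : Gm →* H) (h : ∀ S : symH F n, φ (lS S) = 1)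
    (g : Gm) : φ g = 1 := by
  have hE : φ.ker = ⊤ := by
    refine eq_top_of_unipotents _ (fun S => MonoidHom.mem_ker.2 (h S)) fun S => MonoidHom.mem_ker.2 ?_
    have e := congrArg φ (Jn_mul_uElt S)
    rw [map_mul, map_mul, h, one_mul] at e
    exact mul_eq_left.1 e
  exact MonoidHom.mem_ker.1 (hE ▸ Subgroup.mem_top g)

/-- A representation trivial on lower unitriangular elements is trivial. -/
theorem rep_trivial [NeZero n] {V : Type*} [AddCommGroup V] [Module ℂ V] (ρ : Representation ℂ Gm V)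
    (h : ∀ S : symH F n, ρ (lS S) = 1) (g : Gm) : ρ g = 1 := by
  have hE : ρ.asGroupHom.ker = ⊤ := by
    refine eq_top_of_unipotents _ (fun S => MonoidHom.mem_ker.2 (Units.ext ?_))
      fun S => MonoidHom.mem_ker.2 ?_
    · rw [Representation.asGroupHom_apply, h, Units.val_one]
    · have e := congrArg ρ.asGroupHom (Jn_mul_uElt S)
      rw [map_mul, map_mul] at e
      have h1 : ρ.asGroupHom (lS (-S)) = 1 := Units.ext (by rw [Representation.asGroupHom_apply, h, Units.val_one])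
      rw [h1, one_mul] at e
      exact mul_eq_left.1 e
  have := congrArg Units.val (MonoidHom.mem_ker.1 (hE ▸ Subgroup.mem_top g : g ∈ ρ.asGroupHom.ker))
  rwa [Representation.asGroupHom_apply, Units.val_one] at this

/-! ### Weight characters -/

/-- The weight attached to a vector. -/
def kap (ψ : AddChar F ℂ) (t : T) : AddChar (symH F n) ℂ :=
  ψ.compAddMonoidHom
    { toFun := fun S => -(2⁻¹ * (t ⬝ᵥ ((S : Mn) *ᵥ t)))
      map_zero' := by simp
      map_add' := fun a b => by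
        rw [AddSubgroup.coe_add, Matrix.add_mulVec, dotProduct_add, mul_add, neg_add] }

theorem kap_apply (ψ : AddChar F ℂ) (t : T) (S : symH F n) :
    kap ψ t S = ψ (-(2⁻¹ * (t ⬝ᵥ ((S : Mn) *ᵥ t)))) := rfl

theorem kap_neg (ψ : AddChar F ℂ) (t : T) : kap ψ (-t) = kap (n := n) ψ t := by
  ext S
  rw [kap_apply, kap_apply, Matrix.mulVec_neg, neg_dotProduct_neg]

theorem kap_zero (ψ : AddChar F ℂ) : kap ψ (0 : T) = 1 := by
  ext S
  rw [kap_apply]
  simp

theorem mulShift_inj {ψ : AddChar F ℂ} (hψ : ψ ≠ 0) {a b : F} (h : ∀ x : F, ψ (a * x) = ψ (b * x)) : a = b :=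
  AddChar.to_mulShift_inj_of_isPrimitive (AddChar.IsPrimitive.of_ne_one hψ) (DFunLike.ext _ _ fun x => by
    rw [AddChar.mulShift_apply, AddChar.mulShift_apply, h])

theorem exists_mulShift {ψ : AddChar F ℂ} (hψ : ψ ≠ 0) (ψ' : AddChar F ℂ) : ∃ r : F, ∀ x, ψ' x = ψ (r * x) := by
  have hinj : Function.Injective fun a : F => ψ.mulShift a :=
    AddChar.to_mulShift_inj_of_isPrimitive (AddChar.IsPrimitive.of_ne_one hψ)
  obtain ⟨r, hr⟩ := ((Fintype.bijective_iff_injective_and_card _).2 ⟨hinj, by rw [AddChar.card_eq]⟩).2 ψ'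
  exact ⟨r, fun x => by rw [← hr]; rfl⟩

theorem kap_eq_iff (h2 : (2 : F) ≠ 0) {ψ ψ' : AddChar F ℂ} (hψ : ψ ≠ 0) {r : F} (hr : ∀ x, ψ' x = ψ (r * x))
    (z v : T) : kap ψ' z = kap ψ v ↔ ∀ i j, r * (z i * z j) = v i * v j := by
  have quad : ∀ (u : T) (i j : Fin n), u ⬝ᵥ ((Matrix.single i j (1 : F) + Matrix.single j i (1 : F)) *ᵥ u) =
      2 * (u i * u j) := by
    intro u i j
    rw [Matrix.add_mulVec, dotProduct_add]
    have e : ∀ i j : Fin n, u ⬝ᵥ (Matrix.single i j (1 : F) *ᵥ u) = u i * u j := by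
      intro i j
      have hs : Matrix.single i j (1 : F) *ᵥ u = Pi.single i (u j) := by
        funext k
        by_cases hk : k = i
        · subst hk; simp [Matrix.mulVec, dotProduct, Matrix.single]
        · simp [Matrix.mulVec, dotProduct, Matrix.single, Pi.single_apply, hk, Ne.symm hk]
      rw [hs, dotProduct_single]
    rw [e, e]
    ring
  constructor
  · intro h i j
    have key : ∀ S : symH F n, r * (z ⬝ᵥ ((S : Mn) *ᵥ z)) = v ⬝ᵥ ((S : Mn) *ᵥ v) := by
      intro S
      refine mulShift_inj hψ fun x => ?_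
      have hm : (-2 * x) • (S : Mn) ∈ symH F n := by
        rw [mem_sym, Matrix.transpose_smul, show (S : Mn)ᵀ = (S : Mn) from S.2]
      have := DFunLike.congr_fun h (⟨_, hm⟩ : symH F n)
      rw [kap_apply, kap_apply, hr] at this
      simp only [Matrix.smul_mulVec, dotProduct_smul, smul_eq_mul] at this
      convert this using 2 <;> field_simp
    have hm : Matrix.single i j (1 : F) + Matrix.single j i (1 : F) ∈ symH F n := by
      rw [mem_sym, Matrix.transpose_add, Matrix.transpose_single, Matrix.transpose_single, add_comm]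
    have := key ⟨_, hm⟩
    rw [quad, quad] at this
    exact mul_left_cancel₀ h2 (by linear_combination this)
  · intro h
    ext S
    rw [kap_apply, kap_apply, hr]
    congr 1
    simp only [dotProduct, Matrix.mulVec, Finset.mul_sum, ← Finset.sum_neg_distrib]
    refine Finset.sum_congr rfl fun i _ => Finset.sum_congr rfl fun j _ => ?_
    linear_combination -2⁻¹ * (S : Mn) i j * h i j

theorem kap_inj (h2 : (2 : F) ≠ 0) {ψ : AddChar F ℂ} (hψ : ψ ≠ 0) {u v : T} (h : kap ψ u = kap ψ v) :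
    u = v ∨ u = -v := by
  have h1 := (kap_eq_iff h2 hψ (r := 1) (fun x => by rw [one_mul]) u v).1 h
  by_cases hu : u = 0
  · left
    funext i
    have := h1 i i
    rw [hu] at this ⊢
    simp only [Pi.zero_apply, mul_zero] at this ⊢
    exact (mul_self_eq_zero.1 this.symm).symm
  obtain ⟨i, hi⟩ := Function.ne_iff.1 hu
  have hii := h1 i i
  rw [one_mul] at hii
  rcases mul_self_eq_mul_self_iff.1 hii with e | e
  · left
    funext j
    have := h1 i j
    rw [one_mul, ← e] at this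
    exact mul_left_cancel₀ hi this
  · right
    funext j
    have := h1 i j
    rw [one_mul] at this
    rw [Pi.neg_apply]
    refine mul_left_cancel₀ hi ?_
    rw [this, e]
    ring

/-! ### Weight vectors -/

variable {V : Type*} [AddCommGroup V] [Module ℂ V]
variable (ρ : Representation ℂ (Matrix.symplecticGroup (Fin n) F) V)

/-- Eigenvectors for the lower unitriangular group. -/
def Eig (φ : AddChar (symH F n) ℂ) (x : V) : Prop := ∀ S : symH F n, ρ (lS S) x = φ S • x

/-- The averaging operator for one character. -/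
noncomputable def pr (φ : AddChar (symH F n) ℂ) (x : V) : V :=
  (Fintype.card (symH F n) : ℂ)⁻¹ • ∑ S : symH F n, φ (-S) • ρ (lS S) x

theorem pr_eig (φ : AddChar (symH F n) ℂ) (x : V) : Eig ρ φ (pr ρ φ x) := by
  intro S
  unfold pr
  rw [map_smul, smul_comm (φ S), map_sum, Finset.smul_sum (s := Finset.univ) (r := φ S)]
  congr 1
  refine Fintype.sum_equiv (Equiv.addLeft S) _ _ fun S' => ?_
  rw [Equiv.coe_addLeft, map_smul, ← Module.End.mul_apply, ← map_mul, ← lS_add, smul_smul,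
    ← AddChar.map_add_eq_mul, show S + -(S + S') = -S' by abel]

theorem pr_mem {M : Submodule ℂ V} (hM : ∀ (S : symH F n), ∀ y ∈ M, ρ (lS S) y ∈ M) (φ : AddChar (symH F n) ℂ)
    {x : V} (hx : x ∈ M) : pr ρ φ x ∈ M := by
  exact M.smul_mem _ (M.sum_mem fun S _ => M.smul_mem _ (hM S x hx))

theorem sum_pr (x : V) : ∑ φ : AddChar (symH F n) ℂ, pr ρ φ x = x := by
  show ∑ φ : AddChar (symH F n) ℂ, (Fintype.card (symH F n) : ℂ)⁻¹ • ∑ S : symH F n, φ (-S) • ρ (lS S) x = x
  rw [← Finset.smul_sum, Finset.sum_comm]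
  simp only [← Finset.sum_smul, AddChar.sum_apply_eq_ite, neg_eq_zero (α := symH F n), ite_smul, zero_smul, Finset.sum_ite_eq',
    Finset.mem_univ, if_true, lS_zero, map_one, Module.End.one_apply]
  rw [smul_smul, inv_mul_cancel₀ (Nat.cast_ne_zero.2 Fintype.card_ne_zero), one_smul]

/-- An invariant subspace is spanned by its eigenvectors. -/
theorem le_of_eig {M N : Submodule ℂ V} (hM : ∀ (S : symH F n), ∀ y ∈ M, ρ (lS S) y ∈ M)
    (h : ∀ φ, ∀ y ∈ M, Eig ρ φ y → y ∈ N) : M ≤ N := by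
  intro x hx
  rw [← sum_pr ρ x]
  exact N.sum_mem fun φ _ => h φ _ (pr_mem ρ hM φ hx) (pr_eig ρ φ x)

theorem exists_eig {M : Submodule ℂ V} (hM : ∀ (S : symH F n), ∀ y ∈ M, ρ (lS S) y ∈ M) {x : V} (hx : x ∈ M)
    (hx0 : x ≠ 0) : ∃ φ, ∃ y ∈ M, y ≠ 0 ∧ Eig ρ φ y := by
  by_contra! hno
  have := le_of_eig ρ (N := ⊥) hM (fun φ y hy he => by
    by_contra h0
    exact hno φ y hy (fun e => h0 (by rw [e]; exact Submodule.zero_mem _)) he)
  exact hx0 ((Submodule.mem_bot ℂ).1 (this hx))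

theorem eig_unique {φ φ' : AddChar (symH F n) ℂ} {x : V} (hx : x ≠ 0) (h : Eig ρ φ x) (h' : Eig ρ φ' x) :
    φ = φ' :=
  DFunLike.ext _ _ fun S => smul_left_injective ℂ hx ((h S).symm.trans (h' S))

theorem Eig.map_dElt {φ : AddChar (symH F n) ℂ} {x : V} (h : Eig ρ φ x) (A : (Mn)ˣ) (S : symH F n) :
    ρ (lS (congrInv A S)) (ρ (dElt A) x) = φ S • ρ (dElt A) x := by
  rw [← Module.End.mul_apply, ← map_mul, ← dElt_mul_lS, map_mul, Module.End.mul_apply, h, map_smul]

theorem Eig.dElt_kap {ψ : AddChar F ℂ} {t : T} {x : V} (h : Eig ρ (kap ψ t) x) (A : (Mn)ˣ) :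
    Eig ρ (kap ψ ((A : Mn) *ᵥ t)) (ρ (dElt A) x) := by
  intro S
  have hS : (A : Mn)ᵀ * (S : Mn) * (A : Mn) ∈ symH F n := by
    rw [mem_sym, Matrix.transpose_mul, Matrix.transpose_mul, Matrix.transpose_transpose,
      show (S : Mn)ᵀ = (S : Mn) from S.2, Matrix.mul_assoc]
  have e : congrInv A ⟨_, hS⟩ = S := by
    apply Subtype.ext
    show ((A⁻¹ : (Mn)ˣ) : Mn)ᵀ * ((A : Mn)ᵀ * (S : Mn) * (A : Mn)) * ((A⁻¹ : (Mn)ˣ) : Mn) = S
    rw [← Matrix.mul_assoc, ← Matrix.mul_assoc, ← Matrix.transpose_mul, Units.mul_inv, Matrix.transpose_one,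
      Matrix.one_mul, Matrix.mul_assoc, Units.mul_inv, Matrix.mul_one]
  have := Eig.map_dElt ρ h A ⟨_, hS⟩
  rw [e] at this
  rw [this, kap_apply, kap_apply]
  show ψ (-(2⁻¹ * (t ⬝ᵥ (((A : Mn)ᵀ * (S : Mn) * (A : Mn)) *ᵥ t)))) • _ = _
  rw [← Matrix.mulVec_mulVec, ← Matrix.mulVec_mulVec, Matrix.dotProduct_mulVec t, Matrix.vecMul_transpose]

end Cfsg.Agent.WeilOne
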