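import Cfsg.Agent.Lib.Lie.WeilRankOne.Base
import Cfsg.Agent.Lib.Lie.WeilRankOne.Emb

/-!
# The universal property in every rank
-/

set_option autoImplicit false
set_option linter.unusedSectionVars false
set_option linter.style.haveILetI false

namespace Cfsg.Agent.WeilOne

open Matrix Cfsg Cfsg.Agent.Small.PSpn Cfsg.Agent.SpBound Cfsg.Agent.Weil

universe u

variable {F : Type u} [Field F] [Fintype F] [DecidableEq F]
variable {ψ : AddChar F ℂ} (h2 : (2 : F) ≠ 0) (hψ : ψ ≠ 0)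

/-- Equivariance for a half. -/
def IsHom {n : ℕ} {ε : ℂ} (hε : ε * ε = 1) {V : Type u} [AddCommGroup V] [Module ℂ V]
    (ρ : Representation ℂ (Matrix.symplecticGroup (Fin n) F) V) (f : half (F := F) (n := n) ε →ₗ[ℂ] V) : Prop :=
  ∀ g y, f (wh hε h2 hψ g y) = ρ g (f y)

/-- The universal property of the halves of the Weil representation. -/
def UP (n : ℕ) : Prop :=
  ∀ (V : Type u) [AddCommGroup V] [Module ℂ V] [FiniteDimensional ℂ V]
    (ρ : Representation ℂ (Matrix.symplecticGroup (Fin n) F) V), Single ψ ρ →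
    ∀ (ε : ℂ) (hε : ε * ε = 1) (t : Fin n → F), t ≠ 0 → ∀ x : V, Eig ρ (kap ψ t) x →
      ρ negOne x = (zc n h2 hψ * ε) • x → ∃ f, IsHom h2 hψ hε ρ f ∧ f (ev hε t) = x

/-- The universal property, with only the rank of the weights assumed. -/
def UP1 (n : ℕ) : Prop :=
  ∀ (V : Type u) [AddCommGroup V] [Module ℂ V] [FiniteDimensional ℂ V]
    (ρ : Representation ℂ (Matrix.symplecticGroup (Fin n) F) V), RankOne ρ →
    ∀ (ε : ℂ) (hε : ε * ε = 1) (t : Fin n → F), t ≠ 0 → ∀ x : V, Eig ρ (kap ψ t) x →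
      ρ negOne x = (zc n h2 hψ * ε) • x → ∃ f, IsHom h2 hψ hε ρ f ∧ f (ev hε t) = x

theorem UP1.up {n : ℕ} (h : UP1 (F := F) h2 hψ n) : UP (F := F) h2 hψ n :=
  fun V _ _ _ ρ hs => h V ρ fun φ y hy he => ⟨ψ, hψ, hs φ y hy he⟩

theorem up_one : UP (F := F) h2 hψ 1 :=
  fun _ _ _ _ ρ hs _ hε _ ht _ hx hz => base h2 hψ ρ hs hε ht hx hz

section Pair

variable {a b n : ℕ} (e : Fin a ⊕ Fin b ≃ Fin n)
variable {V : Type u} [AddCommGroup V] [Module ℂ V]
variable (ρ : Representation ℂ (Matrix.symplecticGroup (Fin n) F) V)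

local notation "Ga" => Matrix.symplecticGroup (Fin a) F
local notation "Gb" => Matrix.symplecticGroup (Fin b) F

/-- Restriction to the first factor. -/
def rA : Representation ℂ Ga V := ρ.comp ((emb e).comp (MonoidHom.inl Ga Gb))

/-- Restriction to the second factor. -/
def rB : Representation ℂ Gb V := ρ.comp ((emb e).comp (MonoidHom.inr Ga Gb))

theorem rA_apply (g : Ga) : rA e ρ g = ρ (emb e (g, 1)) := rfl

theorem rB_apply (h : Gb) : rB e ρ h = ρ (emb e (1, h)) := rfl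

theorem rA_rB (g : Ga) (h : Gb) (v : V) : rA e ρ g (rB e ρ h v) = ρ (emb e (g, h)) v := by
  rw [rA_apply, rB_apply, ← Module.End.mul_apply, ← map_mul, ← map_mul, Prod.mk_mul_mk, mul_one, one_mul]

theorem rB_rA (g : Ga) (h : Gb) (v : V) : rB e ρ h (rA e ρ g v) = ρ (emb e (g, h)) v := by
  rw [rA_apply, rB_apply, ← Module.End.mul_apply, ← map_mul, ← map_mul, Prod.mk_mul_mk, mul_one, one_mul]

theorem rA_lS (S : symH F a) (v : V) : rA e ρ (lS S) v = ρ (lS (bd e S 0)) v := by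
  rw [rA_apply, ← emb_lS, lS_zero]

theorem rB_lS (S : symH F b) (v : V) : rB e ρ (lS S) v = ρ (lS (bd e 0 S)) v := by
  rw [rB_apply, ← emb_lS, lS_zero]

theorem eig_rA {t : Fin n → F} {x : V} (h : Eig ρ (kap ψ t) x) : Eig (rA e ρ) (kap ψ (p1 e t)) x := fun S => by
  rw [rA_lS, h, kap_bd, AddChar.map_zero_eq_one, mul_one]

theorem eig_rB {t : Fin n → F} {x : V} (h : Eig ρ (kap ψ t) x) : Eig (rB e ρ) (kap ψ (p2 e t)) x := fun S => by
  rw [rB_lS, h, kap_bd, AddChar.map_zero_eq_one, one_mul]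

theorem eigS_stable_A (φ : AddChar (symH F a) ℂ) (S : symH F n) {y : V} (hy : y ∈ eigS (rA e ρ) φ) :
    ρ (lS S) y ∈ eigS (rA e ρ) φ := fun S' => by
  rw [rA_lS, ← Module.End.mul_apply, ← map_mul, lS_comm, map_mul, Module.End.mul_apply, ← rA_lS, hy S', map_smul]

theorem eigS_stable_B (φ : AddChar (symH F b) ℂ) (S : symH F n) {y : V} (hy : y ∈ eigS (rB e ρ) φ) :
    ρ (lS S) y ∈ eigS (rB e ρ) φ := fun S' => by
  rw [rB_lS, ← Module.End.mul_apply, ← map_mul, lS_comm, map_mul, Module.End.mul_apply, ← rB_lS, hy S', map_smul]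

include h2 hψ in
/-- A weight sharing a nonzero component with the class of `ψ` lies in it. -/
theorem class_eq {k : ℕ} (π : (Fin n → F) → (Fin k → F)) (hπ : ∀ s (i : Fin k), ∃ j, π s i = s j)
    {ψ' : AddChar F ℂ} {s : Fin n → F} {u : Fin k → F} (hu : u ≠ 0) (h : kap ψ' (π s) = kap ψ u) :
    ∃ s', kap ψ' s = kap (n := n) ψ s' := by
  obtain ⟨r, hr⟩ := exists_mulShift hψ ψ'
  have h1 := (kap_eq_iff h2 hψ hr _ _).1 h
  obtain ⟨i, hi⟩ := Function.ne_iff.1 hu
  obtain ⟨j, hj⟩ := hπ s i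
  have hii := h1 i i
  have hz : π s i ≠ 0 := fun h0 => mul_ne_zero hi hi (by rw [← hii, h0, mul_zero, mul_zero])
  refine ⟨(u i / π s i) • s, (kap_eq_iff h2 hψ hr _ _).2 fun k l => ?_⟩
  simp only [Pi.smul_apply, smul_eq_mul]
  field_simp
  linear_combination (s k * s l) * hii

theorem exists_common {φ : AddChar (symH F a) ℂ} {φ' : AddChar (symH F b) ℂ} {y : V} (hy0 : y ≠ 0)
    (hy : Eig (rA e ρ) φ y) (hy' : Eig (rB e ρ) φ' y) :
    ∃ Φ z, z ≠ 0 ∧ Eig ρ Φ z ∧ Eig (rA e ρ) φ z ∧ Eig (rB e ρ) φ' z := by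
  obtain ⟨Φ, z, hz, hz0, hΦ⟩ :=
    exists_eig ρ (M := eigS (rA e ρ) φ ⊓ eigS (rB e ρ) φ')
      (fun S w hw => ⟨eigS_stable_A e ρ φ S hw.1, eigS_stable_B e ρ φ' S hw.2⟩) (⟨hy, hy'⟩) hy0
  exact ⟨Φ, z, hz0, hΦ, hz.1, hz.2⟩

include h2 hψ in
/-- Restricted weights of a common vector. -/
theorem pair_weight (hs : RankOne ρ) {φ : AddChar (symH F a) ℂ} {φ' : AddChar (symH F b) ℂ} {y : V}
    (hy0 : y ≠ 0) (hy : Eig (rA e ρ) φ y) (hy' : Eig (rB e ρ) φ' y)
    (hu : (∃ u, u ≠ 0 ∧ φ = kap ψ u) ∨ (∃ w, w ≠ 0 ∧ φ' = kap ψ w)) :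
    ∃ s : Fin n → F, φ = kap ψ (p1 e s) ∧ φ' = kap ψ (p2 e s) := by
  obtain ⟨Φ, z, hz0, hΦ, hzA, hzB⟩ := exists_common e ρ hy0 hy hy'
  obtain ⟨ψ', hψ', s, rfl⟩ := hs Φ z hz0 hΦ
  have e1 := eig_unique _ hz0 hzA (eig_rA e ρ hΦ)
  have e2 := eig_unique _ hz0 hzB (eig_rB e ρ hΦ)
  obtain ⟨s', hs'⟩ : ∃ s', kap ψ' s = kap (n := n) ψ s' := by
    rcases hu with ⟨u, hu, rfl⟩ | ⟨u, hu, rfl⟩
    · exact class_eq h2 hψ (p1 e) (fun s i => ⟨_, rfl⟩) hu e1.symm
    · exact class_eq h2 hψ (p2 e) (fun s i => ⟨_, rfl⟩) hu e2.symm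
  rw [hs'] at hΦ
  exact ⟨s', eig_unique _ hz0 hzA (eig_rA e ρ hΦ), eig_unique _ hz0 hzB (eig_rB e ρ hΦ)⟩

include h2 hψ in
/-- Joint weight spaces with a vanishing component. -/
theorem eig_joint (hs : RankOne ρ) {u : Fin a → F} {w : Fin b → F} (h0 : u = 0 ∨ w = 0) {y : V}
    (hA : Eig (rA e ρ) (kap ψ u) y) (hB : Eig (rB e ρ) (kap ψ w) y) : Eig ρ (kap ψ (jn e u w)) y := by
  have hle : eigS (rA e ρ) (kap ψ u) ⊓ eigS (rB e ρ) (kap ψ w) ≤ eigS ρ (kap ψ (jn e u w)) := by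
    refine le_of_eig ρ (fun S z hz => ⟨eigS_stable_A e ρ _ S hz.1, eigS_stable_B e ρ _ S hz.2⟩)
      fun Φ z hz hΦ => ?_
    by_cases hz0 : z = 0
    · rw [hz0]; exact Submodule.zero_mem _
    obtain ⟨ψ', hψ', s₀, rfl⟩ := hs Φ z hz0 hΦ
    have e1 := eig_unique _ hz0 hz.1 (eig_rA e ρ hΦ)
    have e2 := eig_unique _ hz0 hz.2 (eig_rB e ρ hΦ)
    obtain ⟨s, hs'⟩ : ∃ s, kap ψ' s₀ = kap (n := n) ψ s := by
      by_cases hu : u = 0
      · by_cases hw : w = 0
        · refine ⟨0, ?_⟩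
          rw [hu, kap_zero, ← kap_zero ψ'] at e1
          rw [hw, kap_zero, ← kap_zero ψ'] at e2
          have c1 : p1 e s₀ = 0 := by rcases kap_inj h2 hψ' e1 with e | e <;> simpa [eq_comm] using e
          have c2 : p2 e s₀ = 0 := by rcases kap_inj h2 hψ' e2 with e | e <;> simpa [eq_comm] using e
          rw [← jn_p e s₀, c1, c2, jn_zero, kap_zero, kap_zero]
        · exact class_eq h2 hψ (p2 e) (fun s i => ⟨_, rfl⟩) hw e2.symm
      · exact class_eq h2 hψ (p1 e) (fun s i => ⟨_, rfl⟩) hu e1.symm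
    rw [hs'] at hΦ
    have c1 := kap_inj h2 hψ (eig_unique _ hz0 hz.1 (eig_rA e ρ hΦ))
    have c2 := kap_inj h2 hψ (eig_unique _ hz0 hz.2 (eig_rB e ρ hΦ))
    have key : jn e u w = s ∨ jn e u w = -s := by
      rcases h0 with rfl | rfl
      · have : p1 e s = 0 := by rcases c1 with e | e <;> simpa [eq_comm] using e
        rcases c2 with rfl | rfl
        · left; conv_rhs => rw [← jn_p e s, this]
        · right; conv_rhs => rw [← jn_p e s, this, ← jn_neg, neg_zero]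
      · have : p2 e s = 0 := by rcases c2 with e | e <;> simpa [eq_comm] using e
        rcases c1 with rfl | rfl
        · left; conv_rhs => rw [← jn_p e s, this]
        · right; conv_rhs => rw [← jn_p e s, this, ← jn_neg, neg_zero]
    rcases key with h | h
    · rw [h]; exact hΦ
    · rw [h, kap_neg]; exact hΦ
  exact hle ⟨hA, hB⟩

/-- The second factor on a weight space of the first. -/
def rY (φ : AddChar (symH F a) ℂ) : Representation ℂ Gb (eigS (rA e ρ) φ) where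
  toFun h :=
    (rB e ρ h).restrict (p := eigS (rA e ρ) φ) (q := eigS (rA e ρ) φ)
      fun y (hy : Eig (rA e ρ) φ y) S => by rw [rA_rB, ← rB_rA, hy S, map_smul]
  map_one' := LinearMap.ext fun y => Subtype.ext (by simp)
  map_mul' h h' := LinearMap.ext fun y => Subtype.ext (by simp [map_mul]; rfl)

include h2 hψ in
theorem single_rY (hs : RankOne ρ) {u : Fin a → F} (hu : u ≠ 0) : Single ψ (rY e ρ (kap ψ u)) := by
  intro φ y hy0 hy
  obtain ⟨s, -, h⟩ := pair_weight h2 hψ e ρ hs (y := y.1) (fun h => hy0 (Subtype.ext h)) y.2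
    (fun S => congrArg Subtype.val (hy S)) (Or.inl ⟨u, hu, rfl⟩)
  exact ⟨_, h⟩

variable [FiniteDimensional ℂ V]

/-- The equivariant maps out of a half of the second factor. -/
noncomputable def EqHom {ε : ℂ} (hε : ε * ε = 1) : Submodule ℂ (half (F := F) (n := b) ε →ₗ[ℂ] V) where
  carrier := {f | IsHom h2 hψ hε (rB e ρ) f}
  zero_mem' g y := by rw [LinearMap.zero_apply, LinearMap.zero_apply, map_zero]
  add_mem' {f f'} hf hf' g y := by rw [LinearMap.add_apply, LinearMap.add_apply, map_add, hf g y, hf' g y]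
  smul_mem' c f hf g y := by rw [LinearMap.smul_apply, LinearMap.smul_apply, map_smul, hf g y]

/-- The first factor acts on equivariant maps. -/
noncomputable def rHom {ε : ℂ} (hε : ε * ε = 1) : Representation ℂ Ga (EqHom h2 hψ e ρ hε) where
  toFun g :=
    { toFun := fun f => ⟨rA e ρ g ∘ₗ f.1, fun h y => by
        rw [LinearMap.comp_apply, LinearMap.comp_apply, f.2 h y, rA_rB, rB_rA]⟩
      map_add' := fun f f' => Subtype.ext (LinearMap.comp_add _ _ _)
      map_smul' := fun c f => Subtype.ext (LinearMap.comp_smul _ c _) }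
  map_one' := LinearMap.ext fun f => Subtype.ext (LinearMap.ext fun y => by simp)
  map_mul' g g' := LinearMap.ext fun f => Subtype.ext (LinearMap.ext fun y => by simp)

theorem rHom_apply {ε : ℂ} (hε : ε * ε = 1) (g : Ga) (f : EqHom h2 hψ e ρ hε) (y : half (F := F) (n := b) ε) :
    (rHom h2 hψ e ρ hε g f).1 y = rA e ρ g (f.1 y) := rfl

theorem eqHom_ext [NeZero b] {ε : ℂ} (hε : ε * ε = 1) {t : Fin b → F} (ht : t ≠ 0)
    {f f' : EqHom h2 hψ e ρ hε} (h : f.1 (ev hε t) = f'.1 (ev hε t)) : f = f' := by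
  refine sub_eq_zero.1 (Subtype.ext (hom_eq_zero h2 hψ hε (rB e ρ) (f - f').1 (f - f').2 ht ?_))
  rw [Submodule.coe_sub, LinearMap.sub_apply, h, sub_self]

theorem single_rHom [NeZero b] {ε : ℂ} (hε : ε * ε = 1) (hs : RankOne ρ) {t : Fin b → F} (ht : t ≠ 0) :
    Single ψ (rHom h2 hψ e ρ hε) := by
  intro φ f hf0 hf
  obtain ⟨s, h, -⟩ := pair_weight h2 hψ e ρ hs (y := f.1 (ev hε t))
    (fun h => hf0 (eqHom_ext h2 hψ e ρ hε ht (by rw [h]; rfl)))
    (φ := φ) (φ' := kap ψ t) (fun S => by rw [← rHom_apply h2 hψ e ρ hε, hf S]; rfl)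
    (fun S => by rw [← f.2 (lS S) (ev hε t), wh_lS h2 hψ hε t S, map_smul]) (Or.inr ⟨t, ht, rfl⟩)
  exact ⟨_, h⟩

/-- The bilinear map attached to one pair of halves. -/
theorem exists_bilin [NeZero a] [NeZero b] (hs : RankOne ρ) (upa : UP (F := F) h2 hψ a) (upb : UP (F := F) h2 hψ b)
    {ε₁ ε₂ : ℂ} (h₁ : ε₁ * ε₁ = 1) (h₂ : ε₂ * ε₂ = 1) {t₁ : Fin a → F} (ht₁ : t₁ ≠ 0) {t₂ : Fin b → F}
    (ht₂ : t₂ ≠ 0) {x : V} (hA : Eig (rA e ρ) (kap ψ t₁) x) (hB : Eig (rB e ρ) (kap ψ t₂) x)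
    (zA : rA e ρ negOne x = (zc a h2 hψ * ε₁) • x) (zB : rB e ρ negOne x = (zc b h2 hψ * ε₂) • x) :
    ∃ K : half (F := F) (n := a) ε₁ →ₗ[ℂ] half (F := F) (n := b) ε₂ →ₗ[ℂ] V,
      K (ev h₁ t₁) (ev h₂ t₂) = x ∧
      ∀ g h y y', K (wh h₁ h2 hψ g y) (wh h₂ h2 hψ h y') = ρ (emb e (g, h)) (K y y') := by
  obtain ⟨f', hf', hfx'⟩ := upb (eigS (rA e ρ) (kap ψ t₁)) (rY e ρ (kap ψ t₁)) (single_rY h2 hψ e ρ hs ht₁) ε₂ h₂ t₂
    ht₂ ⟨x, hA⟩ (fun S => Subtype.ext (hB S)) (Subtype.ext zB)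
  obtain ⟨f, hf, hfx⟩ : ∃ f, IsHom h2 hψ h₂ (rB e ρ) f ∧ f (ev h₂ t₂) = x :=
    ⟨(eigS (rA e ρ) (kap ψ t₁)).subtype ∘ₗ f', fun g y => congrArg Subtype.val (hf' g y), congrArg Subtype.val hfx'⟩
  obtain ⟨k, hk, hkx⟩ := upa (EqHom h2 hψ e ρ h₂) (rHom h2 hψ e ρ h₂) (single_rHom h2 hψ e ρ h₂ hs ht₂) ε₁ h₁ t₁
    ht₁ ⟨f, hf⟩
    (fun S => eqHom_ext h2 hψ e ρ h₂ ht₂ (by
      rw [rHom_apply, Submodule.coe_smul, LinearMap.smul_apply]
      show rA e ρ (lS S) (f _) = _ • f _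
      rw [hfx]; exact hA S))
    (eqHom_ext h2 hψ e ρ h₂ ht₂ (by
      rw [rHom_apply, Submodule.coe_smul, LinearMap.smul_apply]
      show rA e ρ negOne (f _) = _ • f _
      rw [hfx]; exact zA))
  refine ⟨(EqHom h2 hψ e ρ h₂).subtype ∘ₗ k, ?_, fun g h y y' => ?_⟩
  · rw [LinearMap.comp_apply, hkx]; exact hfx
  · rw [LinearMap.comp_apply, LinearMap.comp_apply, hk g y, Submodule.subtype_apply, Submodule.subtype_apply,
      rHom_apply, (k y).2 h y', rA_rB]

end Pair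

section Vectors

variable {n : ℕ}

local notation "T" => Fin n → F

theorem single_wl {ε : ℂ} (hε : ε * ε = 1) (g : Matrix.symplecticGroup (Fin n) F) (u : T) :
    ∑ u' : T, wl h2 hψ g u' u • ev hε u' = wh hε h2 hψ g (ev hε u) := by
  apply Subtype.ext
  funext r
  rw [wh_coe, Submodule.coe_sum, Finset.sum_apply, ev_coe, Matrix.mulVec_add, Matrix.mulVec_smul,
    Matrix.mulVec_single_one, Matrix.mulVec_single_one, Pi.add_apply, Pi.smul_apply, Matrix.col_apply,
    Matrix.col_apply]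
  have hsym : wl h2 hψ g (-r) u = wl h2 hψ g r (-u) := by
    have hp := congrFun (congrFun ((wl_spec h2 hψ g).2.1.commute_par h2 hψ (wl_spec h2 hψ g).1) r) u
    rw [Matrix.mul_apply, Matrix.mul_apply, Fintype.sum_eq_single (-r) (fun j hj => by simp [par, hj]),
      Fintype.sum_eq_single (-u) (fun j hj => by
        have : par F n j u = 0 := by
          simp only [par, Matrix.of_apply, ite_eq_right_iff, one_ne_zero, imp_false]
          exact fun e => hj (by rw [e, neg_neg])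
        rw [this, mul_zero])] at hp
    simpa [par] using hp
  simp only [Submodule.coe_smul, ev_coe, Pi.smul_apply, Pi.add_apply, Pi.single_apply, smul_eq_mul, mul_add,
    mul_ite, mul_one, mul_zero, Finset.sum_add_distrib, Finset.sum_ite_eq, Finset.mem_univ, if_true]
  rw [← hsym]
  congr 1
  rw [Fintype.sum_eq_single (-r) (fun j hj => by
    rw [if_neg (fun e => hj (by rw [e, neg_neg]))])]
  rw [neg_neg, if_pos rfl]
  ring

end Vectors

section Glue

variable {a b n : ℕ} (e : Fin a ⊕ Fin b ≃ Fin n)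
variable {V : Type u} [AddCommGroup V] [Module ℂ V]
variable (ρ : Representation ℂ (Matrix.symplecticGroup (Fin n) F) V)

/-- Extending values on standard vectors linearly. -/
noncomputable def lift0 (q : (Fin n → F) → V) : ((Fin n → F) → ℂ) →ₗ[ℂ] V :=
  ∑ t, (LinearMap.proj t : ((Fin n → F) → ℂ) →ₗ[ℂ] ℂ).smulRight (q t)

theorem lift0_apply (q : (Fin n → F) → V) (f : (Fin n → F) → ℂ) : lift0 q f = ∑ t, f t • q t := by
  simp [lift0]

theorem lift0_single (q : (Fin n → F) → V) (t : Fin n → F) : lift0 q (Pi.single t 1) = q t := by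
  rw [lift0_apply, Fintype.sum_eq_single t (fun j hj => by rw [Pi.single_eq_of_ne hj, zero_smul]),
    Pi.single_eq_same, one_smul]

include h2 hψ in
/-- Gluing the bilinear maps. -/
theorem glueMap [NeZero a] [NeZero b] {ε : ℂ} (hε : ε * ε = 1) (hε' : -ε * -ε = 1) (ho : (-1 : ℂ) * -1 = 1)
    (Kp : half (F := F) (n := a) (1 : ℂ) →ₗ[ℂ] half (F := F) (n := b) ε →ₗ[ℂ] V)
    (Km : half (F := F) (n := a) (-1 : ℂ) →ₗ[ℂ] half (F := F) (n := b) (-ε) →ₗ[ℂ] V)
    (hp : ∀ g h y y', Kp (wh (one_mul 1) h2 hψ g y) (wh hε h2 hψ h y') = ρ (emb e (g, h)) (Kp y y'))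
    (hm : ∀ g h y y', Km (wh ho h2 hψ g y) (wh hε' h2 hψ h y') = ρ (emb e (g, h)) (Km y y')) :
    ∃ f : half (F := F) (n := n) ε →ₗ[ℂ] V,
      (∀ p y, f (wh hε h2 hψ (emb e p) y) = ρ (emb e p) (f y)) ∧
      ∀ u w, f (ev hε (jn e u w)) = Kp (ev (one_mul 1) u) (ev hε w) + Km (ev ho u) (ev hε' w) := by
  set q : (Fin n → F) → V := fun s => (2 : ℂ)⁻¹ •
    (Kp (ev (one_mul 1) (p1 e s)) (ev hε (p2 e s)) + Km (ev ho (p1 e s)) (ev hε' (p2 e s))) with hq
  refine ⟨lift0 q ∘ₗ (half (F := F) (n := n) ε).subtype, fun p => ?_, fun u w => ?_⟩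
  · obtain ⟨g, h⟩ := p
    have key : ∀ u w, lift0 q (kr e (wl h2 hψ g) (wl h2 hψ h) *ᵥ Pi.single (jn e u w) 1) =
        ρ (emb e (g, h)) (q (jn e u w)) := by
      intro u w
      rw [lift0_apply, sum_jn e]
      simp only [Matrix.mulVec_single_one, Matrix.col_apply, kr, Matrix.of_apply, hq, p1_jn, p2_jn]
      rw [map_smul, map_add, ← hp, ← hm, ← single_wl h2 hψ (one_mul 1) g u, ← single_wl h2 hψ hε h w,
        ← single_wl h2 hψ ho g u, ← single_wl h2 hψ hε' h w]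
      simp only [map_sum, map_smul, LinearMap.sum_apply, LinearMap.smul_apply, Finset.smul_sum, smul_add,
        smul_smul, ← Finset.sum_add_distrib]
      rw [Finset.sum_comm]
      refine Finset.sum_congr rfl fun w' _ => Finset.sum_congr rfl fun u' _ => ?_
      module
    have hlin : lift0 q ∘ₗ Matrix.toLin' (kr e (wl h2 hψ g) (wl h2 hψ h)) = ρ (emb e (g, h)) ∘ₗ lift0 q := by
      refine LinearMap.pi_ext' fun s => LinearMap.ext_ring ?_
      rw [LinearMap.comp_apply, LinearMap.comp_apply, LinearMap.comp_apply, LinearMap.comp_apply,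
        LinearMap.single_apply, Matrix.toLin'_apply, lift0_single, ← jn_p e s]
      exact key _ _
    intro y
    rw [LinearMap.comp_apply, LinearMap.comp_apply, Submodule.subtype_apply, Submodule.subtype_apply, wh_coe,
      wl_emb e h2 hψ]
    exact LinearMap.congr_fun hlin _
  · rw [LinearMap.comp_apply, Submodule.subtype_apply, ev_coe, map_add, map_smul, lift0_single, ← jn_neg,
      lift0_single]
    simp only [hq, p1_jn, p2_jn, ev_neg, map_smul, LinearMap.smul_apply, smul_add, smul_smul, one_smul,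
      mul_one]
    linear_combination (norm := (match_scalars <;> linear_combination (2 : ℂ)⁻¹ * hε)) (0 : V)

end Glue

section Main

variable {a b n : ℕ} (e : Fin a ⊕ Fin b ≃ Fin n)

include e in
theorem up_step [NeZero a] [NeZero b] [NeZero n] (upa : UP (F := F) h2 hψ a) (upb : UP (F := F) h2 hψ b) :
    UP1 (F := F) h2 hψ n := by
  intro V _ _ _ ρ hs ε hε t₀ ht₀ x₀ hx₀ hz₀
  have ho : (-1 : ℂ) * -1 = 1 := by norm_num
  have hε' : -ε * -ε = 1 := by rw [neg_mul_neg, hε]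
  set tA : Fin a → F := Pi.single 0 1
  set tB : Fin b → F := Pi.single 0 1
  have htA : tA ≠ 0 := by simp [tA]
  have htB : tB ≠ 0 := by simp [tB]
  set t := jn e tA tB with htdef
  have ht : t ≠ 0 := fun h => htA (by rw [← p1_jn e tA tB, ← htdef, h]; rfl)
  obtain ⟨A, hA⟩ := exists_map h2 ht₀ ht
  set x := ρ (dElt A) x₀ with hxdef
  have hx : Eig ρ (kap ψ t) x := hA ▸ hx₀.dElt_kap ρ A
  have hz : ρ negOne x = (zc n h2 hψ * ε) • x := by
    rw [hxdef, ← Module.End.mul_apply, ← map_mul, negOne_comm, map_mul, Module.End.mul_apply, hz₀, map_smul]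
  suffices h : ∃ f, IsHom h2 hψ hε ρ f ∧ f (ev hε t) = x by
    obtain ⟨f, hf, hfx⟩ := h
    obtain ⟨c, hc, he⟩ := wh_dElt h2 hψ hε A
    refine ⟨c⁻¹ • f, fun g y => by rw [LinearMap.smul_apply, LinearMap.smul_apply, hf g y, map_smul], ?_⟩
    have h1 := hf (dElt A) (ev hε t₀)
    rw [he, hA, map_smul, hfx, hxdef, ← map_smul] at h1
    have h3 := congrArg (ρ (dElt A)⁻¹) h1
    rw [← Module.End.mul_apply, ← Module.End.mul_apply, ← map_mul, inv_mul_cancel, map_one, Module.End.one_apply,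
      Module.End.one_apply] at h3
    rw [LinearMap.smul_apply, ← h3, inv_smul_smul₀ hc]
  -- splitting off the centres of the two factors
  have hxA : Eig (rA e ρ) (kap ψ tA) x := by have := eig_rA e ρ hx; rwa [p1_jn] at this
  have hxB : Eig (rB e ρ) (kap ψ tB) x := by have := eig_rB e ρ hx; rwa [p2_jn] at this
  set s : Matrix.symplecticGroup (Fin a) F := negOne with hsdef
  set za := zc a h2 hψ
  set zb := zc b h2 hψ
  have hza : za * za = 1 := zc_sq h2 hψ
  have hzn : zc n h2 hψ = za * zb := zc_mul e h2 hψ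
  have hss : s * s = 1 := eq_of_act fun v => by rw [act_mul, act_negOne, act_negOne, act_one, neg_neg]
  have hA2 : ∀ y, rA e ρ negOne (rA e ρ negOne y) = y := fun y => by
    rw [← Module.End.mul_apply, ← map_mul, ← hsdef, hss, map_one, Module.End.one_apply]
  have hcz : ∀ y, rB e ρ negOne y = ρ negOne (rA e ρ s y) := fun y => by
    rw [← emb_negOne (F := F) e, ← rB_rA, hsdef, hA2]
  have part : ∀ ε₁ : ℂ, ε₁ * ε₁ = 1 →
      let y := (2 : ℂ)⁻¹ • (x + (za * ε₁) • rA e ρ s x)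
      Eig (rA e ρ) (kap ψ tA) y ∧ Eig (rB e ρ) (kap ψ tB) y ∧ rA e ρ s y = (za * ε₁) • y ∧
        rB e ρ negOne y = (zb * (ε * ε₁)) • y := by
    intro ε₁ h₁ y
    have hc : za * ε₁ * (za * ε₁) = 1 := by linear_combination (ε₁ * ε₁) * hza + h₁
    have e1 : rA e ρ s y = (za * ε₁) • y := by
      simp only [y, map_smul, map_add, ← Module.End.mul_apply, ← map_mul, hss, map_one, Module.End.one_apply,
        smul_add, smul_smul]
      match_scalars <;> first | ring1 | linear_combination (2 : ℂ)⁻¹ * hc | linear_combination -(2 : ℂ)⁻¹ * hc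
    refine ⟨fun S => ?_, fun S => ?_, e1, ?_⟩
    · have : rA e ρ (lS S) (rA e ρ s x) = kap ψ tA S • rA e ρ s x := by
        rw [← Module.End.mul_apply, ← map_mul, hsdef, ← negOne_comm, map_mul, Module.End.mul_apply, hxA S, map_smul]
      simp only [y, map_smul, map_add, hxA S, this]
      module
    · have : rB e ρ (lS S) (rA e ρ s x) = kap ψ tB S • rA e ρ s x := by
        rw [rB_rA, ← rA_rB, hxB S, map_smul]
      simp only [y, map_smul, map_add, hxB S, this]
      module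
    · rw [hcz, e1, map_smul]
      have : ρ negOne y = (zc n h2 hψ * ε) • y := by
        have h3 : ρ negOne (rA e ρ s x) = (zc n h2 hψ * ε) • rA e ρ s x := by
          rw [rA_apply, ← Module.End.mul_apply, ← map_mul, negOne_comm, map_mul, Module.End.mul_apply, hz, map_smul]
        simp only [y, map_smul, map_add, hz, h3]
        module
      rw [this, smul_smul, hzn]
      congr 1
      linear_combination (zb * ε₁ * ε) * hza
  obtain ⟨pA, pB, pzA, pzB⟩ := part 1 (one_mul 1)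
  obtain ⟨mA, mB, mzA, mzB⟩ := part (-1) ho
  rw [mul_one ε] at pzB
  rw [show ε * -1 = -ε by ring] at mzB
  obtain ⟨Kp, hKp, hp⟩ := exists_bilin h2 hψ e ρ hs upa upb (one_mul 1) hε htA htB pA pB pzA pzB
  obtain ⟨Km, hKm, hm⟩ := exists_bilin h2 hψ e ρ hs upa upb ho hε' htA htB mA mB mzA mzB
  obtain ⟨f, hfe, hfv⟩ := glueMap h2 hψ e ρ hε hε' ho Kp Km hp hm
  have hfx : f (ev hε t) = x := by
    rw [htdef, hfv, hKp, hKm]
    match_scalars <;> ring
  refine ⟨f, ?_, hfx⟩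
  have hweight : ∀ r, Eig ρ (kap ψ r) (f (ev hε r)) := by
    intro r
    by_cases hr : p1 e r ≠ 0 ∧ p2 e r ≠ 0
    · obtain ⟨B, hB⟩ := exists_map h2 htA hr.1
      obtain ⟨B', hB'⟩ := exists_map h2 htB hr.2
      have hBt : (bdU e B B' : Matrix (Fin n) (Fin n) F) *ᵥ t = r := by rw [htdef, bdU_mulVec, hB, hB', jn_p]
      obtain ⟨c, hc, he⟩ := wh_dElt h2 hψ hε (bdU e B B')
      have h1 := hfe (dElt B, dElt B') (ev hε t)
      rw [emb_dElt, he, hBt, map_smul, hfx] at h1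
      have h3 : f (ev hε r) = c⁻¹ • ρ (dElt (bdU e B B')) x := by rw [← h1, inv_smul_smul₀ hc]
      rw [h3, ← mem_eigS]
      exact Submodule.smul_mem _ _ (by rw [mem_eigS, ← hBt]; exact hx.dElt_kap ρ _)
    · rw [not_and_or, not_not, not_not] at hr
      have hA' : Eig (rA e ρ) (kap ψ (p1 e r)) (f (ev hε r)) := fun S => by
        have h := hfe (lS S, lS 0) (ev hε r)
        rw [emb_lS, wh_lS h2 hψ hε r, kap_bd, map_smul] at h
        rw [rA_lS, ← h, AddChar.map_zero_eq_one, mul_one]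
      have hB' : Eig (rB e ρ) (kap ψ (p2 e r)) (f (ev hε r)) := fun S => by
        have h := hfe (lS 0, lS S) (ev hε r)
        rw [emb_lS, wh_lS h2 hψ hε r, kap_bd, map_smul] at h
        rw [rB_lS, ← h, AddChar.map_zero_eq_one, one_mul]
      have := eig_joint h2 hψ e ρ hs hr hA' hB'
      rwa [jn_p] at this
  let E : Subgroup (Matrix.symplecticGroup (Fin n) F) :=
    { carrier := {g | ∀ y, f (wh hε h2 hψ g y) = ρ g (f y)}
      one_mem' := fun y => by simp
      mul_mem' := fun {g g'} hg hg' y => by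
        rw [map_mul, map_mul, Module.End.mul_apply, Module.End.mul_apply, hg, hg']
      inv_mem' := fun {g} hg y => by
        have h := congrArg (ρ g⁻¹) (hg (wh hε h2 hψ g⁻¹ y))
        simp only [← Module.End.mul_apply, ← map_mul, mul_inv_cancel, inv_mul_cancel, map_one,
          Module.End.one_apply] at h
        exact h.symm }
  have hE : E = ⊤ := by
    refine eq_top_of_emb e E (fun S y => ?_) fun p y => hfe p y
    refine LinearMap.congr_fun (f := f ∘ₗ wh hε h2 hψ (lS S)) (g := ρ (lS S) ∘ₗ f) (LinearMap.ext_on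
      (s := Set.range (ev hε)) ?_ ?_) y
    · exact span_ev hε fun r => Submodule.subset_span ⟨r, rfl⟩
    · rintro _ ⟨r, rfl⟩
      rw [LinearMap.comp_apply, LinearMap.comp_apply, wh_lS h2 hψ hε r S, map_smul, hweight r S]
  intro g
  exact (hE.symm ▸ Subgroup.mem_top g : g ∈ E)

end Main

theorem up_all : ∀ (n : ℕ) [NeZero n], UP (F := F) h2 hψ n := by
  intro n
  induction n using Nat.strong_induction_on with
  | _ n ih =>
    intro _
    obtain ⟨m, rfl⟩ := Nat.exists_eq_succ_of_ne_zero (NeZero.ne n)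
    rcases m with _ | m
    · exact up_one h2 hψ
    · refine UP1.up h2 hψ (up_step h2 hψ (finSumFinEquiv.trans (finCongr (show 1 + (m + 1) = m + 1 + 1 by omega)))
        (up_one h2 hψ) (ih (m + 1) (by omega)))

theorem up1_all {n : ℕ} [NeZero n] (hn : 2 ≤ n) : UP1 (F := F) h2 hψ n := by
  obtain ⟨m, rfl⟩ := Nat.exists_eq_add_of_le hn
  exact up_step h2 hψ (finSumFinEquiv.trans (finCongr (show 1 + (m + 1) = 2 + m by omega)))
    (up_one h2 hψ) (up_all h2 hψ (m + 1))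

end Cfsg.Agent.WeilOne
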